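import Mathlib
import Cfsg.Agent.ClosedExc.Rows
import Cfsg.Agent.H557.LrData
import Cfsg.Agent.H755.Sd.Par
import Cfsg.Agent.S4627
import Cfsg.Agent.S1054
import Cfsg.Agent.H634.SdDef_m3
import Mathlib.GroupTheory.Sylow
import Mathlib.GroupTheory.Perm.Fin
import Mathlib.Tactic
import Cfsg.Agent.Lib.SylowNormalInf
import Mathlib.GroupTheory.NoncommPiCoprod
import Cfsg.Agent.Lib.FastPerm
import Cfsg.Agent.H491.Sd.Norm
import Cfsg.Agent.KFacts.RgdRigid
import Cfsg.Agent.S1093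
import Cfsg.Agent.FastGrp
import Cfsg.Agent.Prune
set_option linter.all false

section
prune_inst 0x7fbdfefb3ff8addfffff7e7ffef5dffff9e8bfffe6dff9fb7fe8e9ff2b9f6b08efe5fb87ffe012ff3ef6e2b610f87b13fdffde7fef6bdc7ffffd5ff45ffbfe1fedf6bdac51f7b8341ffe4fff8bf97f8e7f3fffffffffffffffffffffffffffbeffffffffffff

-- part: H775/Sd/ChevElem_mg
section
prune_inst 0x4001000004000000000000000000000000000000000000000002000000008200000008000000000000000000000000000000000000000000000000000000000008000000000000000020001000004000000000000000000000000000000000000000000000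
set_option linter.all false
open scoped Cfsg.Agent.FastGrp

-- part: H775/Sd/Sgn
section
/-!
# Squares of torus elements and of products of orthogonal reflections (S4579, helper775)

* `torus_sq` : `t * t ∈ E` for the elements `t` of the torus, if `-1` is represented in `E`;
* `exists_lift` : the product of orthogonal reflections has a representative with a square acting on the root groups by known
  signs;
* `sgn_ext` : sign elements are determined by the signs.
-/

set_option autoImplicit false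
set_option linter.unusedSectionVars false

namespace Cfsg.Agent.H775.Sd.Sgn

open CoxeterSystem Cfsg.Agent.ChevalleyStructure.CoxeterGeom Cfsg.Agent.Tits.Roots Cfsg.Agent.Tits.Core
  Cfsg.Agent.Nodes.Reps Cfsg.Agent.Nodes.BNOf Cfsg.Agent.Nodes.Bruhat Cfsg.Agent.Nodes.FreeTorus
  Cfsg.Agent.ClosedExc Cfsg.Agent.ClosedExc.Rk Cfsg.Agent.ClosedExc.Frame Cfsg.Agent.KFacts.RgdField
  Cfsg.Agent.BpExc.TorCent Cfsg.Agent.H557.LrSgn

section gen

variable {I W Y : Type*} [Fintype I] [DecidableEq I] [Group W] [Group Y] {M : CoxeterMatrix I}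
  {cs : CoxeterSystem M W} {C : I → I → ℤ} {h : IsCartan M C} {p : ℕ} {T : Subgroup Y} {n : I → Y}
  {X : (I → ℤ) → Subgroup Y}

/-- an element centralising the root groups is trivial -/
theorem eq_one_of_comm (hG : RGD.Sup X {x | IsRoot cs h x} = ⊤) (hZ : ∀ z : Y, (∀ y, z * y = y * z) → z = 1) {z : Y}
    (hz : ∀ a, IsRoot cs h a → ∀ u ∈ X a, z * u = u * z) : z = 1 := by
  refine hZ z fun y => ?_
  have h1 : RGD.Sup X {x | IsRoot cs h x} ≤ Subgroup.centralizer ({z} : Set Y) := by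
    refine RGD.Sup_le fun a ha u hu => ?_
    rw [Subgroup.mem_centralizer_singleton_iff]
    exact (hz a ha u hu).symm
  rw [hG] at h1
  exact (Subgroup.mem_centralizer_singleton_iff.1 (h1 (Subgroup.mem_top y))).symm

section torus

variable {F : Type*} [Field F] {xx : (I → ℤ) → F → Y} {χ : (I → ℤ) → Y → F} (R : RGD cs h p T n X)

include R

/-- the squares of the elements of the torus -/
theorem torus_sq (Co : Coords cs h T n X xx χ) (hA : ChAdd cs h T χ) (hG : RGD.Sup X {x | IsRoot cs h x} = ⊤)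
    (hZ : ∀ z : Y, (∀ y, z * y = y * z) → z = 1) {E : Subgroup Y} (hTE : T ≤ Subgroup.normalizer (E : Set Y))
    {w : W} (hw : ∀ x, rep cs h w x = -x) {e : Y} (he : Rp cs R.nsys w e) (heE : e ∈ E) {t : Y} (ht : t ∈ T) :
    t * t ∈ E := by
  have ht' : e * t * e⁻¹ ∈ T := (Subgroup.mem_normalizer_iff.1 he.mem_normalizer t).1 ht
  have h1 : e * t * e⁻¹ * t = 1 := by
    refine eq_one_of_comm hG hZ fun a ha u hu => ?_
    obtain ⟨φ, h0, hadd, hφ⟩ := hA t ht
    have h2 : χ a (e * t * e⁻¹) = χ (-a) t := by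
      have h3 := Co.chi_rp R.nsys he ha.neg ht
      rw [hw, neg_neg] at h3
      exact h3
    have h4 : χ a (e * t * e⁻¹) * χ a t = 1 := by
      rw [h2, hφ a ha, hφ _ ha.neg, ← hadd, neg_add_cancel, h0]
    obtain ⟨b, rfl⟩ := ((Co.coord a ha).mem u).1 hu
    have h5 := (Co.coord a ha).act t ht b
    have h6 := (Co.coord a ha).act _ ht' (χ a t * b)
    have h7 : e * t * e⁻¹ * t * xx a b * (e * t * e⁻¹ * t)⁻¹ = xx a b := by
      calc e * t * e⁻¹ * t * xx a b * (e * t * e⁻¹ * t)⁻¹ = e * t * e⁻¹ * (t * xx a b * t⁻¹) * (e * t * e⁻¹)⁻¹ := by group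
        _ = xx a b := by rw [h5, h6, ← mul_assoc, h4, one_mul]
    exact mul_inv_eq_iff_eq_mul.1 h7
  have h3 : t * t = t * e * t⁻¹ * e⁻¹ := by
    have h4 : t = e * t⁻¹ * e⁻¹ := by
      have h5 := eq_inv_of_mul_eq_one_right h1
      have h6 : (e * t * e⁻¹)⁻¹ = e * t⁻¹ * e⁻¹ := by group
      exact h5.trans h6
    calc t * t = t * (e * t⁻¹ * e⁻¹) := by rw [← h4]
      _ = t * e * t⁻¹ * e⁻¹ := by group
  rw [h3]
  exact mul_mem ((Subgroup.mem_normalizer_iff.1 (hTE ht) e).1 heE) (inv_mem heE)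

end torus

/-! ### sign elements -/

theorem sgn_one : SgnEl cs h T X 0 (1 : Y) where
  mem := one_mem _
  fix a _ _ u _ := by rw [one_mul, mul_one]
  inv a _ h0 u _ := absurd rfl h0

theorem sgn_mul {φ ψ : (I → ℤ) →+ ZMod 2} {y z : Y} (hy : SgnEl cs h T X φ y) (hz : SgnEl cs h T X ψ z) :
    SgnEl cs h T X (φ + ψ) (y * z) where
  mem := mul_mem hy.mem hz.mem
  fix a ha h0 u hu := by
    rw [AddMonoidHom.add_apply] at h0
    by_cases h1 : φ a = 0
    · rw [h1, zero_add] at h0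
      rw [mul_assoc, hz.fix a ha h0 u hu, ← mul_assoc, hy.fix a ha h1 u hu, mul_assoc]
    · have h2 : ψ a ≠ 0 := fun h2 => h1 (by rw [h2, add_zero] at h0; exact h0)
      have h3 := hz.inv a ha h2 u hu
      have h4 := hy.inv a ha h1 _ (inv_mem hu)
      rw [inv_inv] at h4
      have h5 : y * z * u * (y * z)⁻¹ = u := by
        calc y * z * u * (y * z)⁻¹ = y * (z * u * z⁻¹) * y⁻¹ := by group
          _ = u := by rw [h3, h4]
      exact mul_inv_eq_iff_eq_mul.1 h5
  inv a ha h0 u hu := by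
    rw [AddMonoidHom.add_apply] at h0
    have h6 : y * z * u * (y * z)⁻¹ = y * (z * u * z⁻¹) * y⁻¹ := by group
    rw [h6]
    by_cases h1 : φ a = 0
    · rw [h1, zero_add] at h0
      rw [hz.inv a ha h0 u hu, hy.fix a ha h1 _ (inv_mem hu), mul_inv_cancel_right]
    · have h2 : ψ a = 0 := by
        by_contra h2
        rw [zmod2_cases _ h1, zmod2_cases _ h2] at h0
        exact h0 (by decide)
      rw [hz.fix a ha h2 u hu, mul_inv_cancel_right, hy.inv a ha h1 u hu]

/-- sign elements are determined by the signs -/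
theorem sgn_ext (hG : RGD.Sup X {x | IsRoot cs h x} = ⊤) (hZ : ∀ z : Y, (∀ y, z * y = y * z) → z = 1)
    {φ : (I → ℤ) →+ ZMod 2} {y z : Y} (hy : SgnEl cs h T X φ y) (hz : SgnEl cs h T X φ z) : y = z := by
  have h1 : z⁻¹ * y = 1 := by
    refine eq_one_of_comm hG hZ fun a ha u hu => ?_
    have h2 : y * u * y⁻¹ = z * u * z⁻¹ := by
      by_cases h1 : φ a = 0
      · rw [hy.fix a ha h1 u hu, hz.fix a ha h1 u hu, mul_inv_cancel_right, mul_inv_cancel_right]
      · rw [hy.inv a ha h1 u hu, hz.inv a ha h1 u hu]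
    have h3 : z⁻¹ * y * u * (z⁻¹ * y)⁻¹ = u := by
      calc z⁻¹ * y * u * (z⁻¹ * y)⁻¹ = z⁻¹ * (y * u * y⁻¹) * z := by group
        _ = u := by rw [h2]; group
    exact mul_inv_eq_iff_eq_mul.1 h3
  exact (inv_mul_eq_one.1 h1).symm

variable (R : RGD cs h p T n X)

include R

/-- conjugates of lifted reflections -/
theorem lift_conj {x : I → ℤ} (hx : IsRoot cs h x) {w : W} {φ : (I → ℤ) →+ ZMod 2}
    (hw : ∃ m ∈ LL X x, Rp cs R.nsys w m ∧ SgnEl cs h T X φ (m * m)) (v : W) :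
    ∃ m ∈ LL X (rep cs h v x), Rp cs R.nsys (v * w * v⁻¹) m ∧
      SgnEl cs h T X (φ.comp (rep cs h v⁻¹).toAddMonoidHom) (m * m) := by
  obtain ⟨m, hm, hr, hs⟩ := hw
  obtain ⟨k, hk⟩ := exists_rp cs R.nsys v
  refine ⟨k * m * k⁻¹, ?_, (hk.mul hr).mul hk.inv, ?_⟩
  · rw [← rp_cj_LL R hk hx]
    exact conj_mem_cj.2 hm
  · have h1 : k * m * k⁻¹ * (k * m * k⁻¹) = k * (m * m) * k⁻¹ := by group
    rw [h1]
    exact hs.conj R hk

end gen

section fin

open Cfsg.Agent.ClosedExc.WFr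

variable {l : ℕ} {W Y : Type*} [Group W] [Group Y] {M : CoxeterMatrix (Fin l)}
  {cs : CoxeterSystem M W} {C : Fin l → Fin l → ℤ} {h : IsCartan M C} {p : ℕ} {T : Subgroup Y} {n : Fin l → Y}
  {X : (Fin l → ℤ) → Subgroup Y} {AL : List (List ℤ)}

/-- the parity of the pairing with a root -/
def ph (C : Fin l → Fin l → ℤ) (i : Fin l) : (Fin l → ℤ) →+ ZMod 2 where
  toFun x := ((pairing C i x : ℤ) : ZMod 2)
  map_zero' := by simp only [pairing, _root_.Pi.zero_apply, _root_.MulZeroClass.mul_zero, _root_.Finset.sum_const_zero, _root_.Int.cast_zero]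
  map_add' x y := by
    rw [← Int.cast_add]
    congr 1
    simp only [pairing, Pi.add_apply, mul_add, Finset.sum_add_distrib]

/-- the parity of the pairing with the root of `p` -/
def par (cs : CoxeterSystem M W) (h : IsCartan M C) (p : List ℕ × ℕ) : (Fin l → ℤ) →+ ZMod 2 :=
  if hi : p.2 < l then (ph C ⟨p.2, hi⟩).comp (rep cs h (wd cs p.1)⁻¹).toAddMonoidHom else 0

/-- computable version -/
def parZ (AL : List (List ℤ)) (l j : ℕ) (p : List ℕ × ℕ) : ℤ := dot (AL.getD p.2 []) (act AL p.1.reverse (ei l j))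

theorem pairing_toV (hA : IsTab C AL) (i : Fin l) {x : List ℤ} (hx : x.length = l) :
    pairing C i (toV l x) = dot (AL.getD i []) x := by
  have h1 : (AL.getD i []).length = l := by
    rw [List.getD_eq_getElem _ _ (by rw [hA.len]; exact i.2)]
    exact hA.len' _ (List.getElem_mem _)
  rw [dot_eq h1 hx, pairing]
  exact Finset.sum_congr rfl fun k _ => by rw [hA.eq, toV_apply]

theorem par_sr (hA : IsTab C AL) {p : List ℕ × ℕ} (hi : p.2 < l) (j : Fin l) :
    par cs h p (sr j) = ((parZ AL l j p : ℤ) : ZMod 2) := by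
  rw [par, dif_pos hi]
  show ((pairing C ⟨p.2, hi⟩ (rep cs h (wd cs p.1)⁻¹ (sr j)) : ℤ) : ZMod 2) = _
  rw [← wd_reverse cs, ← toV_ei j, rep_wd cs h hA (ei_length l j),
    pairing_toV hA ⟨p.2, hi⟩ (by rw [act_length, ei_length])]
  rfl

variable (R : RGD cs h p T n X)

include R

/-- the lift of one reflection -/
theorem lift_one (hA : IsTab C AL)
    (hs : ∀ i, ∃ m ∈ LL X (sr i), Rp cs R.nsys (cs.simple i) m ∧ SgnEl cs h T X (ph C i) (m * m))
    {p : List ℕ × ℕ} (hi : p.2 < l) :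
    ∃ m ∈ LL X (toV l (rootOf AL l p)), Rp cs R.nsys (wd cs (rw' p)) m ∧ SgnEl cs h T X (par cs h p) (m * m) := by
  have h1 := lift_conj R (isRoot_sr cs h ⟨p.2, hi⟩) (hs ⟨p.2, hi⟩) (wd cs p.1)
  have h2 : rep cs h (wd cs p.1) (sr ⟨p.2, hi⟩) = toV l (rootOf AL l p) := by
    rw [rootOf, ← rep_wd cs h hA (ei_length l p.2)]
    exact congrArg _ (toV_ei ⟨p.2, hi⟩).symm
  have h3 : wd cs (rw' p) = wd cs p.1 * cs.simple ⟨p.2, hi⟩ * (wd cs p.1)⁻¹ := by
    rw [rw', wd_append, wd, dif_pos hi, wd_reverse, mul_assoc]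
  rw [h2] at h1
  rw [h3, par, dif_pos hi]
  exact h1

/-- **The lift of a product of orthogonal reflections.** -/
theorem exists_lift (hA : IsTab C AL)
    (hs : ∀ i, ∃ m ∈ LL X (sr i), Rp cs R.nsys (cs.simple i) m ∧ SgnEl cs h T X (ph C i) (m * m)) :
    ∀ g : List (List ℕ × ℕ), (∀ p ∈ g, p.2 < l) →
      g.Pairwise (fun p q => LC X (toV l (rootOf AL l p)) (toV l (rootOf AL l q))) →
      ∃ m, Rp cs R.nsys (wd cs (fw g)) m ∧ SgnEl cs h T X (g.map (par cs h)).sum (m * m) ∧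
        ∀ H : Subgroup Y, (∀ p ∈ g, LL X (toV l (rootOf AL l p)) ≤ H) → m ∈ H
  | [], _, _ => ⟨1, rp_one, by rw [mul_one]; exact sgn_one, fun H _ => one_mem H⟩
  | p :: g, hg, hp => by
    obtain ⟨m', hr', hs', hH'⟩ := exists_lift hA hs g (fun q hq => hg q (List.mem_cons_of_mem _ hq))
      (List.pairwise_cons.1 hp).2
    obtain ⟨m, hm, hr, hsm⟩ := lift_one R hA hs (hg p List.mem_cons_self)
    have hc : m' ∈ Subgroup.centralizer ({m} : Set Y) := by
      refine hH' _ fun q hq x hx => ?_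
      rw [Subgroup.mem_centralizer_singleton_iff]
      exact ((List.pairwise_cons.1 hp).1 q hq m hm x hx).eq.symm
    rw [Subgroup.mem_centralizer_singleton_iff] at hc
    refine ⟨m * m', ?_, ?_, fun H hH => ?_⟩
    · have h1 : fw (p :: g) = rw' p ++ fw g := by rw [fw, List.flatMap_cons, fw]
      rw [h1, wd_append]
      exact hr.mul hr'
    · rw [List.map_cons, List.sum_cons]
      have h1 : m * m' * (m * m') = m * m * (m' * m') := by
        calc m * m' * (m * m') = m * (m' * m) * m' := by group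
          _ = m * m * (m' * m') := by rw [hc]; group
      rw [h1]
      exact sgn_mul hsm hs'
    · exact mul_mem (hH p List.mem_cons_self hm) (hH' H fun q hq => hH q (List.mem_cons_of_mem _ hq))

/-- products of squares of lifted reflections -/
theorem exists_sq (hA : IsTab C AL)
    (hs : ∀ i, ∃ m ∈ LL X (sr i), Rp cs R.nsys (cs.simple i) m ∧ SgnEl cs h T X (ph C i) (m * m))
    {E : Subgroup Y} :
    ∀ g : List (List ℕ × ℕ), (∀ p ∈ g, p.2 < l) → (∀ p ∈ g, LL X (toV l (rootOf AL l p)) ≤ E) →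
      ∃ z ∈ E, SgnEl cs h T X (g.map (par cs h)).sum z
  | [], _, _ => ⟨1, one_mem _, sgn_one⟩
  | p :: g, hg, hE => by
    obtain ⟨z, hz, hz'⟩ := exists_sq hA hs g (fun q hq => hg q (List.mem_cons_of_mem _ hq))
      (fun q hq => hE q (List.mem_cons_of_mem _ hq))
    obtain ⟨m, hm, hr, hsm⟩ := lift_one R hA hs (hg p List.mem_cons_self)
    have hmE := hE p List.mem_cons_self hm
    refine ⟨m * m * z, mul_mem (mul_mem hmE hmE) hz, ?_⟩
    rw [List.map_cons, List.sum_cons]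
    exact sgn_mul hsm hz'

omit R in
/-- two sums of parities -/
theorem sum_par_eq (hA : IsTab C AL) {g g' : List (List ℕ × ℕ)} (hg : ∀ p ∈ g, p.2 < l) (hg' : ∀ p ∈ g', p.2 < l)
    (he : ∀ j < l, ((g.map (parZ AL l j)).sum + (g'.map (parZ AL l j)).sum) % 2 = 0) :
    (g.map (par cs h)).sum = (g'.map (par cs h)).sum := by
  have h1 : ∀ (L : List (List ℕ × ℕ)), (∀ p ∈ L, p.2 < l) → ∀ j : Fin l,
      (L.map (par cs h)).sum (sr j) = (((L.map (parZ AL l j)).sum : ℤ) : ZMod 2) := by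
    intro L
    induction L with
    | nil => intro _ j; simp
    | cons p L ih =>
      intro hL j
      rw [List.map_cons, List.sum_cons, List.map_cons, List.sum_cons, AddMonoidHom.add_apply, Int.cast_add,
        ih (fun q hq => hL q (List.mem_cons_of_mem _ hq)), par_sr hA (hL p List.mem_cons_self)]
  have h2 : ∀ j : Fin l, (g.map (par cs h)).sum (sr j) = (g'.map (par cs h)).sum (sr j) := by
    intro j
    rw [h1 g hg, h1 g' hg']
    have h3 := he j j.2
    have h4 : (((g.map (parZ AL l j)).sum : ℤ) : ZMod 2) + (((g'.map (parZ AL l j)).sum : ℤ) : ZMod 2) = 0 := by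
      rw [← Int.cast_add, ZMod.intCast_zmod_eq_zero_iff_dvd]
      exact Int.dvd_of_emod_eq_zero h3
    have h5 := eq_neg_of_add_eq_zero_left h4
    rw [h5, neg_zmod2]
  refine DFunLike.ext _ _ fun x => ?_
  rw [H557.LrOrb.eq_sum_sr x, map_sum, map_sum]
  refine Finset.sum_congr rfl fun k _ => ?_
  rw [map_zsmul, map_zsmul, h2]

end fin

end Cfsg.Agent.H775.Sd.Sgn
end

-- part: H775/Sd/FrameElem
section
/-!
# Frames of commuting rank one groups: `Elem` (S4579, helper775)

`frame_elem` : `R` a root group datum of the finite group `Y`, a frame of commuting rank one groups `LL X (β a)` (quotients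
of `SL₂`, odd characteristic), a 2-subgroup `P` of the Weyl group permuting the frame faithfully. Suppose that the squares of
the elements of the torus and of suitable representatives of generators of `P` lie in the product `E` of the rank one groups,
and that `E.NP R P` has odd index. Then the Sylow 2-subgroups `S` of `Y` have an elementary abelian quotient `S/S'`.
-/

set_option autoImplicit false
set_option linter.unusedSectionVars false

namespace Cfsg.Agent.H775.Sd.FrameElem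

open Cfsg.Agent.H643.Sd

section gen

theorem elem_of_surjective {G H : Type*} [Group G] [Finite G] [Group H] (f : G →* H) (hf : Function.Surjective f)
    (h : Elem G) : Elem H := h.of_surjective f hf

theorem lin2_of_mulEquiv {A B : Type*} [Group A] [Group B] (e : A ≃* B) (h : Lin2 A) : Lin2 B := by
  intro f x
  have := h (f.comp e.toMonoidHom) (e.symm x)
  simpa only [_root_.MulEquiv.toMonoidHom_eq_coe, _root_.MonoidHom.coe_comp, _root_.MonoidHom.coe_coe, _root_.Function.comp_apply, _root_.MulEquiv.apply_symm_apply] using this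

/-- 2-groups -/
theorem elem_of_isPGroup {K : Type*} [Group K] [Finite K] (hK : IsPGroup 2 K) (h : Lin2 K) : Elem K := by
  intro P
  have hP : (P : Subgroup K) = ⊤ := (P.is_maximal' (hK.to_subgroup ⊤) le_top).symm
  rw [hP]
  exact lin2_of_mulEquiv Subgroup.topEquiv.symm h

theorem lin2_prod {A B : Type*} [Group A] [Group B] (hA : Lin2 A) (hB : Lin2 B) : Lin2 (A × B) := by
  rintro f ⟨a, b⟩
  have h1 : (a, b) = (a, 1) * (1, b) := by simp
  rw [h1, map_mul, mul_pow]
  have h2 : f (a, 1) ^ 2 = 1 := hA (f.comp (MonoidHom.inl A B)) a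
  have h3 : f (1, b) ^ 2 = 1 := hB (f.comp (MonoidHom.inr A B)) b
  rw [h2, h3, one_mul]

theorem elem_prod {A B : Type*} [Group A] [Finite A] [Group B] [Finite B] (hA : Elem A) (hB : Elem B) :
    Elem (A × B) := by
  obtain ⟨P⟩ : Nonempty (Sylow 2 A) := inferInstance
  obtain ⟨Q⟩ : Nonempty (Sylow 2 B) := inferInstance
  have hp : Fact (Nat.Prime 2) := ⟨Nat.prime_two⟩
  refine elem_of_odd_index ((P : Subgroup A).prod (Q : Subgroup B)) ?_ ?_
  · rw [Subgroup.index_prod, Nat.odd_mul]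
    constructor
    · rw [← Nat.not_even_iff_odd, even_iff_two_dvd]
      exact P.not_dvd_index
    · rw [← Nat.not_even_iff_odd, even_iff_two_dvd]
      exact Q.not_dvd_index
  · have e : ((P : Subgroup A).prod (Q : Subgroup B)) ≃* (↥(P : Subgroup A) × ↥(Q : Subgroup B)) :=
      Subgroup.prodEquiv _ _
    refine elem_of_isPGroup ?_ (lin2_of_mulEquiv e.symm (lin2_prod (hA P) (hB Q)))
    rintro ⟨⟨a, b⟩, ha, hb⟩
    obtain ⟨k, hk⟩ := P.2 ⟨a, ha⟩
    obtain ⟨m, hm⟩ := Q.2 ⟨b, hb⟩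
    have hk' : a ^ 2 ^ k = 1 := congrArg Subtype.val hk
    have hm' : b ^ 2 ^ m = 1 := congrArg Subtype.val hm
    refine ⟨k + m, Subtype.ext (Prod.ext ?_ ?_)⟩
    · show a ^ 2 ^ (k + m) = 1
      rw [pow_add, pow_mul, hk', one_pow]
    · show b ^ 2 ^ (k + m) = 1
      rw [add_comm, pow_add, pow_mul, hm', one_pow]

variable {G : Type*} [Group G]

/-- products of two commuting subgroups -/
theorem elem_sup [Finite G] {L H : Subgroup G} (hL : Elem L) (hH : Elem H) (hc : ∀ x ∈ L, ∀ y ∈ H, Commute x y) :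
    Elem ↥(L ⊔ H) := by
  let f : L × H →* ↥(L ⊔ H) :=
    { toFun := fun z => ⟨(z.1 : G) * z.2, mul_mem (Subgroup.mem_sup_left z.1.2) (Subgroup.mem_sup_right z.2.2)⟩
      map_one' := Subtype.ext (mul_one _)
      map_mul' := fun z w => by
        apply Subtype.ext
        show ((z.1 : G) * w.1) * ((z.2 : G) * w.2) = (z.1 : G) * z.2 * (w.1 * w.2)
        have h1 : (w.1 : G) * z.2 = z.2 * w.1 := hc _ w.1.2 _ z.2.2
        calc ((z.1 : G) * w.1) * ((z.2 : G) * w.2) = z.1 * (w.1 * z.2) * w.2 := by group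
          _ = _ := by rw [h1]; group }
  refine elem_of_surjective f ?_ (elem_prod hL hH)
  rintro ⟨x, hx⟩
  have hn : H ≤ Subgroup.normalizer (L : Set G) := by
    refine le_trans ?_ (Subgroup.centralizer_le_normalizer (s := (L : Set G)))
    intro y hy
    rw [Subgroup.mem_centralizer_iff]
    exact fun z hz => (hc z hz y hy).eq
  have hx' : x ∈ ((L ⊔ H : Subgroup G) : Set G) := hx
  rw [Subgroup.coe_mul_of_right_le_normalizer_left _ _ hn, Set.mem_mul] at hx'
  obtain ⟨y, hy, z, hz, rfl⟩ := hx'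
  exact ⟨(⟨y, hy⟩, ⟨z, hz⟩), rfl⟩

theorem elem_of_subsingleton {K : Type*} [Group K] [Subsingleton K] : Elem K := by
  intro P f x
  have : x = 1 := Subsingleton.elim _ _
  rw [this, map_one, one_pow]

/-- finitely many pairwise commuting subgroups -/
theorem elem_iSup [Finite G] {ι : Type*} [Finite ι] {L : ι → Subgroup G} (hL : ∀ a, Elem (L a))
    (hc : ∀ a b, a ≠ b → ∀ x ∈ L a, ∀ y ∈ L b, Commute x y) : Elem ↥(⨆ a, L a) := by
  classical
  have : Fintype ι := Fintype.ofFinite ι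
  have key : ∀ s : Finset ι, Elem ↥(⨆ a ∈ s, L a) := by
    intro s
    induction s using Finset.induction_on with
    | empty =>
      have h1 : (⨆ a ∈ (∅ : Finset ι), L a) = ⊥ := by simp only [_root_.Finset.notMem_empty, _root_.not_false_eq_true, _root_.iSup_neg, _root_.iSup_bot]
      rw [h1]
      exact elem_of_subsingleton
    | insert a s ha ih =>
      rw [Finset.iSup_insert]
      refine elem_sup (hL a) ih ?_
      intro x hx y hy
      have hle : (⨆ b ∈ s, L b) ≤ Subgroup.centralizer ({x} : Set G) := by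
        refine iSup₂_le fun b hb z hz => ?_
        rw [Subgroup.mem_centralizer_singleton_iff]
        exact (hc a b (fun e => ha (e ▸ hb)) x hx z hz).symm
      exact (Subgroup.mem_centralizer_singleton_iff.1 (hle hy)).symm
  have h1 : (⨆ a ∈ (Finset.univ : Finset ι), L a) = ⨆ a, L a := by simp only [_root_.Finset.mem_univ, _root_.iSup_pos]
  rw [← h1]
  exact key Finset.univ

/-- linear characters and the commutator subgroup -/
theorem lin2_of_sq {K : Type*} [Group K] (h : ∀ x : K, x ^ 2 ∈ commutator K) : Lin2 K := by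
  intro f x
  rw [← map_pow]
  exact (Abelianization.commutator_subset_ker f) (h x)

theorem elem_SL {F : Type} [Field F] [Fintype F] (hF : Odd (Fintype.card F)) :
    Elem (Matrix.SpecialLinearGroup (Fin 2) F) := by
  intro P
  refine lin2_of_sq ?_
  refine S4627.result hF 1 le_rfl ?_ P
  have h1 : Fintype.card F % 4 = 1 ∨ Fintype.card F % 4 = 3 := by
    have := Nat.odd_iff.1 hF
    omega
  rcases h1 with h1 | h1
  · right
    refine ⟨?_, 0, rfl⟩
    omega
  · left
    omega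

theorem elem_of_isSL [Finite G] {L : Subgroup G} (h : ClosedExc.IsSL L) : Elem L := by
  obtain ⟨F, i1, i2, φ, hF, -, rfl⟩ := h
  exact elem_of_surjective φ.rangeRestrict φ.rangeRestrict_surjective (elem_SL hF)

/-- A group generated by `p`-subgroups, `p` odd: the abelianization has odd order. -/
theorem odd_abelianization {K : Type*} [Group K] [Finite K] {p : ℕ} [Fact p.Prime] (hp2 : Odd p) {S : Set K}
    (hS : Subgroup.closure S = ⊤) (h : ∀ x ∈ S, ∃ k : ℕ, x ^ p ^ k = 1) : Odd (Nat.card (Abelianization K)) := by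
  have h1 : IsPGroup p (Abelianization K) := by
    intro y
    obtain ⟨x, rfl⟩ := QuotientGroup.mk_surjective y
    have hx : x ∈ Subgroup.closure S := by rw [hS]; exact Subgroup.mem_top x
    show ∃ k : ℕ, (Abelianization.of x) ^ p ^ k = 1
    induction hx using Subgroup.closure_induction with
    | mem x hx =>
      obtain ⟨k, hk⟩ := h x hx
      exact ⟨k, by rw [← map_pow, hk, map_one]⟩
    | one => exact ⟨0, by rw [map_one, one_pow]⟩
    | mul x y _ _ hx hy =>
      obtain ⟨k, hk⟩ := hx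
      obtain ⟨m, hm⟩ := hy
      refine ⟨k + m, ?_⟩
      rw [map_mul, mul_pow]
      have e1 : (Abelianization.of x) ^ p ^ (k + m) = 1 := by rw [pow_add, pow_mul, hk, one_pow]
      have e2 : (Abelianization.of y) ^ p ^ (k + m) = 1 := by rw [add_comm, pow_add, pow_mul, hm, one_pow]
      rw [e1, e2, one_mul]
    | inv x _ hx =>
      obtain ⟨k, hk⟩ := hx
      exact ⟨k, by rw [map_inv, inv_pow, hk, inv_one]⟩
  obtain ⟨n, hn⟩ := IsPGroup.iff_card.1 h1
  rw [hn]
  exact hp2.pow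

end gen

section frame

open CoxeterSystem Cfsg.Agent.ChevalleyStructure.CoxeterGeom Cfsg.Agent.Tits.Roots Cfsg.Agent.Tits.Core
  Cfsg.Agent.Nodes.Reps Cfsg.Agent.Nodes.BNOf Cfsg.Agent.Nodes.Bruhat Cfsg.Agent.Nodes.FreeTorus
  Cfsg.Agent.ClosedTwo.Torus Cfsg.Agent.ClosedTwo.Elem Cfsg.Agent.ClosedExc Cfsg.Agent.ClosedExc.Rk
  Cfsg.Agent.ClosedExc.Prod Cfsg.Agent.ClosedExc.Frame

variable {I W Y : Type*} [Fintype I] [DecidableEq I] [Group W] [Group Y] {M : CoxeterMatrix I}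
  {cs : CoxeterSystem M W} {C : I → I → ℤ} {h : IsCartan M C} {p : ℕ} {T : Subgroup Y} {n : I → Y}
  {X : (I → ℤ) → Subgroup Y} (R : RGD cs h p T n X) [Finite W] [Finite Y]
  {ι : Type*} [Fintype ι] {β : ι → (I → ℤ)} {P : Subgroup W} (F : FrameData cs h X β P)

include R F

/-- the order count -/
theorem odd_index (hG : RGD.Sup X {x | IsRoot cs h x} = ⊤) (hSL : ∀ i, IsSL (LL X (sr i)))
    (hord : ∀ m : ℕ, 2 ^ m ∣ Nat.card Y → 2 ^ m ∣ Nat.card T * Nat.card P * ∏ a, (Nat.card (X (β a)) + 1)) :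
    Odd ((⨆ a, LL X (β a)) ⊔ NP R P).index := by
  have hSL' : ∀ x, IsRoot cs h x → IsSL (LL X x) := fun x hx => isSL_of_root R hSL hx
  have hGG : GG cs h T X = ⊤ := by
    rw [eq_top_iff, ← hG]
    exact le_sup_right
  have hn := NP_le_normalizer R F
  have hinf : (⨆ a, LL X (β a)) ⊓ NP R P = (⨆ a, LL X (β a)) ⊓ T := by
    apply le_antisymm
    · rintro g ⟨h1, w, hw, hg⟩
      refine ⟨h1, frame_kernel R F hSL' hw hg (one_mem _) fun a => ?_⟩
      rw [one_mul]
      exact frame_cj_E F h1 a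
    · exact inf_le_inf_left _ (T_le_NP R)
  have hE : Nat.card ↥((⨆ a, LL X (β a)) ⊓ T) * ∏ a, (Nat.card (X (β a)) + 1) ∣ Nat.card ↥(⨆ a, LL X (β a)) := by
    have h1 := Prod.card_dvd (L := fun a => LL X (β a)) (K := fun a => X (β a)) F.orth
      (fun a => X_le_LL (β a)) (St := T) (fun s hs a => R.tor _ (F.root a) s hs)
    have h2 : ∀ a, Nat.card (Set.range fun g : LL X (β a) => cj (g : Y) (X (β a))) = Nat.card (X (β a)) + 1 :=
      fun a => card_conj R hGG (F.root a)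
    simp only [h2] at h1
    exact h1
  have hcard : Nat.card T * Nat.card P * ∏ a, (Nat.card (X (β a)) + 1) ∣ Nat.card ↥((⨆ a, LL X (β a)) ⊔ NP R P) := by
    have h1 := card_sup_mul' hn
    rw [hinf, card_NP R P] at h1
    obtain ⟨c, hc⟩ := hE
    rw [hc] at h1
    refine ⟨c, ?_⟩
    have hpos : 0 < Nat.card ↥((⨆ a, LL X (β a)) ⊓ T) := Nat.card_pos
    refine Nat.eq_of_mul_eq_mul_right hpos ?_
    rw [h1]; ring
  have hidx : ¬ 2 ∣ ((⨆ a, LL X (β a)) ⊔ NP R P).index := by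
    intro h2
    have hne : Nat.card ↥((⨆ a, LL X (β a)) ⊔ NP R P) ≠ 0 := Nat.card_pos.ne'
    have h3 : 2 ^ ((Nat.card ↥((⨆ a, LL X (β a)) ⊔ NP R P)).factorization 2 + 1) ∣ Nat.card Y := by
      rw [← Subgroup.card_mul_index ((⨆ a, LL X (β a)) ⊔ NP R P), pow_succ]
      exact mul_dvd_mul (Nat.ordProj_dvd _ 2) h2
    exact Nat.pow_succ_factorization_not_dvd hne Nat.prime_two ((hord _ h3).trans hcard)
  rwa [← Nat.not_even_iff_odd, even_iff_two_dvd]

/-- `E` has an abelianization of odd order. -/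
theorem odd_E [Fact p.Prime] (hp2 : Odd p) : Odd (Nat.card (Abelianization ↥(⨆ a, LL X (β a)))) := by
  classical
  set E := ⨆ a, LL X (β a) with hE
  refine odd_abelianization (p := p) hp2 (S := {x : E | ∃ z, IsRoot cs h z ∧ (x : Y) ∈ X z}) ?_ ?_
  · have h1 : ∀ a, X (β a) ≤ E := fun a => (X_le_LL (β a)).trans (le_iSup (fun a => LL X (β a)) a)
    have h2 : ∀ a, X (-β a) ≤ E := fun a => (X_neg_le_LL (β a)).trans (le_iSup (fun a => LL X (β a)) a)
    have key : E ≤ (Subgroup.closure {x : E | ∃ z, IsRoot cs h z ∧ (x : Y) ∈ X z}).map E.subtype := by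
      conv_lhs => rw [hE]
      refine iSup_le fun a => sup_le ?_ ?_
      · intro u hu
        exact ⟨⟨u, h1 a hu⟩, Subgroup.subset_closure ⟨β a, F.root a, hu⟩, rfl⟩
      · intro u hu
        exact ⟨⟨u, h2 a hu⟩, Subgroup.subset_closure ⟨-β a, (F.root a).neg, hu⟩, rfl⟩
    rw [eq_top_iff]
    rintro ⟨x, hx⟩ -
    obtain ⟨y, hy, e⟩ := key hx
    have : y = ⟨x, hx⟩ := Subtype.ext e
    rw [← this]
    exact hy
  · rintro x ⟨z, hz, hxz⟩
    obtain ⟨k, hk⟩ := R.pgrp' hz ⟨x, hxz⟩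
    have hk' : (x : Y) ^ p ^ k = 1 := congrArg (fun u : X z => (u : Y)) hk
    exact ⟨k, Subtype.ext hk'⟩

/-- **The frame lemma.** -/
theorem frame_elem [Fact p.Prime] (hp2 : Odd p) (hG : RGD.Sup X {x | IsRoot cs h x} = ⊤)
    (hSL : ∀ i, IsSL (LL X (sr i))) (hP : IsPGroup 2 ↥P) {Γ : Set W} (hPΓ : P = Subgroup.closure Γ)
    (hT : ∀ t ∈ T, t * t ∈ ⨆ a, LL X (β a))
    (hΓ : ∀ w ∈ Γ, ∃ g, Rp cs R.nsys w g ∧ g * g ∈ ⨆ a, LL X (β a))
    (hord : ∀ m : ℕ, 2 ^ m ∣ Nat.card Y → 2 ^ m ∣ Nat.card T * Nat.card P * ∏ a, (Nat.card (X (β a)) + 1)) :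
    Elem Y := by
  classical
  set E := ⨆ a, LL X (β a) with hE
  have hSL' : ∀ x, IsRoot cs h x → IsSL (LL X x) := fun x hx => isSL_of_root R hSL hx
  have hn : NP R P ≤ Subgroup.normalizer (E : Set Y) := NP_le_normalizer R F
  have hEE : Elem ↥E := elem_iSup (fun a => elem_of_isSL (hSL' _ (F.root a))) F.orth
  refine elem_of_odd_index (E ⊔ NP R P) (odd_index R F hG hSL hord) ?_
  have hEM : E ≤ E ⊔ NP R P := le_sup_left
  have hNM : NP R P ≤ E ⊔ NP R P := le_sup_right
  have hnorm : (E.subgroupOf (E ⊔ NP R P)).Normal :=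
    (Subgroup.normal_subgroupOf_iff_le_normalizer hEM).2 (sup_le Subgroup.le_normalizer hn)
  have e : E.subgroupOf (E ⊔ NP R P) ≃* E := Subgroup.subgroupOfEquivOfLe hEM
  have hodd := odd_E R F hp2
  rw [← hE] at hodd
  -- the decomposition of the elements
  have hdec : ∀ x ∈ E ⊔ NP R P, ∃ y ∈ E, ∃ g ∈ NP R P, x = y * g := by
    intro x hx
    have hx' : x ∈ ((E ⊔ NP R P : Subgroup Y) : Set Y) := hx
    rw [Subgroup.coe_mul_of_right_le_normalizer_left _ _ hn, Set.mem_mul] at hx'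
    obtain ⟨y, hy, z, hz, rfl⟩ := hx'
    exact ⟨y, hy, z, hz, rfl⟩
  refine elem_of_normal (E.subgroupOf (E ⊔ NP R P)) (elem_of_surjective e.symm.toMonoidHom e.symm.surjective hEE) ?_ ?_
  · -- the quotient
    have hq : ∀ (x : ↥(E ⊔ NP R P)), (x : Y) ∈ E → (QuotientGroup.mk' (E.subgroupOf (E ⊔ NP R P))) x = 1 := by
      intro x hx
      exact (QuotientGroup.eq_one_iff x).2 (Subgroup.mem_subgroupOf.2 hx)
    refine elem_of_isPGroup ?_ ?_
    · intro y
      obtain ⟨⟨x, hx⟩, rfl⟩ := QuotientGroup.mk'_surjective _ y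
      obtain ⟨a, ha, g, hg, rfl⟩ := hdec x hx
      obtain ⟨w, hw, hgw⟩ := hg
      obtain ⟨k, hk⟩ := hP ⟨w, hw⟩
      have hk' : w ^ 2 ^ k = 1 := congrArg Subtype.val hk
      have hpow : ∀ m : ℕ, Rp cs R.nsys (w ^ m) (g ^ m) := by
        intro m
        induction m with
        | zero => rw [pow_zero, pow_zero]; exact rp_one
        | succ m ih => rw [pow_succ, pow_succ]; exact ih.mul hgw
      have h1 : g ^ 2 ^ k ∈ T := by
        have := hpow (2 ^ k)
        rw [hk'] at this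
        exact this.mem_of_one
      have h2 : g ^ 2 ^ (k + 1) ∈ E := by
        rw [pow_succ, pow_mul, pow_two]
        exact hT _ h1
      refine ⟨k + 1, ?_⟩
      have h3 : (⟨a * g, hx⟩ : ↥(E ⊔ NP R P)) = ⟨a, hEM ha⟩ * ⟨g, hNM ⟨w, hw, hgw⟩⟩ := rfl
      rw [h3, map_mul, hq ⟨a, hEM ha⟩ ha, one_mul, ← map_pow]
      exact hq _ h2
    · intro f
      -- the elements on which `f` has square one
      let S : Subgroup ↥(E ⊔ NP R P) :=
        ((powMonoidHom 2 : ℂˣ →* ℂˣ).comp (f.comp (QuotientGroup.mk' (E.subgroupOf (E ⊔ NP R P))))).ker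
      have hS : ∀ x : ↥(E ⊔ NP R P), x ∈ S ↔ f (QuotientGroup.mk' (E.subgroupOf (E ⊔ NP R P)) x) ^ 2 = 1 :=
        fun x => Iff.rfl
      have hSE : ∀ x : ↥(E ⊔ NP R P), (x : Y) * x ∈ E → x ∈ S := by
        intro x hx
        rw [hS, ← map_pow, ← map_pow, hq (x ^ 2) (by rw [pow_two]; exact hx), map_one]
      have hNS : ∀ w ∈ Subgroup.closure Γ, ∀ g (hg : g ∈ NP R P), Rp cs R.nsys w g → (⟨g, hNM hg⟩ : ↥(E ⊔ NP R P)) ∈ S := by
        intro w hw
        induction hw using Subgroup.closure_induction with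
        | mem w hw =>
          intro g hg hgr
          obtain ⟨g0, hg0, hsq⟩ := hΓ w hw
          have hg0N : g0 ∈ NP R P := ⟨w, by rw [hPΓ]; exact Subgroup.subset_closure hw, hg0⟩
          have ht : g0⁻¹ * g ∈ T := hg0.unique hgr
          have h3 : (⟨g, hNM hg⟩ : ↥(E ⊔ NP R P)) = ⟨g0, hNM hg0N⟩ * ⟨g0⁻¹ * g, hNM (T_le_NP R ht)⟩ :=
            Subtype.ext (by show g = g0 * (g0⁻¹ * g); group)
          rw [h3]
          exact S.mul_mem (hSE _ hsq) (hSE _ (hT _ ht))
        | one =>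
          intro g hg hgr
          exact hSE _ (hT _ hgr.mem_of_one)
        | mul w1 w2 hw1 hw2 h1 h2 =>
          intro g hg hgr
          obtain ⟨g2, hr2⟩ := exists_rp cs R.nsys w2
          have hg2N : g2 ∈ NP R P := ⟨w2, by rw [hPΓ]; exact hw2, hr2⟩
          have h3 : Rp cs R.nsys w1 (g * g2⁻¹) := by
            have := hgr.mul hr2.inv
            rwa [mul_inv_cancel_right] at this
          have hg1N : g * g2⁻¹ ∈ NP R P := mul_mem hg (inv_mem hg2N)
          have h4 : (⟨g, hNM hg⟩ : ↥(E ⊔ NP R P)) = ⟨g * g2⁻¹, hNM hg1N⟩ * ⟨g2, hNM hg2N⟩ :=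
            Subtype.ext (by show g = g * g2⁻¹ * g2; group)
          rw [h4]
          exact S.mul_mem (h1 _ hg1N h3) (h2 _ hg2N hr2)
        | inv w hw h1 =>
          intro g hg hgr
          have hr : Rp cs R.nsys w g⁻¹ := by
            have := hgr.inv
            rwa [inv_inv] at this
          have h2 := S.inv_mem (h1 g⁻¹ (inv_mem hg) hr)
          have h3 : (⟨g⁻¹, hNM (inv_mem hg)⟩ : ↥(E ⊔ NP R P))⁻¹ = ⟨g, hNM hg⟩ := Subtype.ext (inv_inv g)
          rwa [h3] at h2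
      intro y
      obtain ⟨⟨x, hx⟩, rfl⟩ := QuotientGroup.mk'_surjective _ y
      rw [← hS]
      obtain ⟨a, ha, g, hg, rfl⟩ := hdec x hx
      obtain ⟨w, hw, hgw⟩ := id hg
      have h3 : (⟨a * g, hx⟩ : ↥(E ⊔ NP R P)) = ⟨a, hEM ha⟩ * ⟨g, hNM hg⟩ := rfl
      rw [h3]
      exact S.mul_mem (hSE _ (mul_mem ha ha)) (hNS w (by rw [← hPΓ]; exact hw) g hg hgw)
  · rw [Nat.card_congr (MulEquiv.abelianizationCongr e).toEquiv]
    exact hodd

end frame

end Cfsg.Agent.H775.Sd.FrameElem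
end

-- part: H775/Sd/ChevElem
section
/-!
# `Elem` for the Chevalley groups of type `E₇`, `E₈`, `F₄` in odd characteristic (S4579, helper775)

`elem_chev` : from a frame certificate (`ClosedExc.WFr.Cert`) of full rank, with parity checks (`Chk`).
-/

set_option autoImplicit false
set_option linter.unusedSectionVars false
set_option maxRecDepth 100000

namespace Cfsg.Agent.H775.Sd.ChevElem

open CoxeterSystem Cfsg.Agent.ChevalleyStructure.CoxeterGeom Cfsg.Agent.Tits.Roots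
  Cfsg.Agent.Nodes.Reps Cfsg.Agent.Nodes.BNOf Cfsg.Agent.Nodes.FreeTorus Cfsg.Agent.Nodes.Bruhat
open Cfsg.Lie Cfsg.Agent.ChevalleyStructure Cfsg.Agent.ChevalleyStructure.Elts
  Cfsg.Agent.ChevalleyStructure.NPerm Cfsg.Agent.Nodes.RGDChev Cfsg.Agent.ChevalleyStructure.CoxeterGeomTypes
open Cfsg.Agent.ClosedExc Cfsg.Agent.ClosedExc.Frame Cfsg.Agent.ClosedExc.WFr Cfsg.Agent.ClosedExc.Chev
open Cfsg.Agent.H557.LrSgn Cfsg.Agent.H775.Sd.Sgn Cfsg.Agent.H643.Sd
open Cfsg.Agent.KFacts.RgdChevCoord (nc xc ch coords)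

section frame

variable {l : ℕ} {W : Type*} [Group W] {M : CoxeterMatrix (Fin l)} (cs : CoxeterSystem M W)
  {C : Fin l → Fin l → ℤ} (h : IsCartan M C) {k N : ℕ} {c : Cert}

/-- the generators of the group of permutations -/
def Gm (cs : CoxeterSystem M W) (c : Cert) : Set W := {w | ∃ g ∈ c.G, w = wd cs (fw g.1)}

/-- `ClosedExc.WFr.wframe` with explicit data -/
theorem wframe' (hA : IsTab C c.AL) (hc : Ok l k N c) :
    (∀ a < k, IsRoot cs h (toV l (c.T.getD a []))) ∧
    (∀ w ∈ Subgroup.closure (Gm cs c), ∀ a : Fin k, ∃ b : Fin k, rep cs h w (toV l (c.T.getD a [])) = toV l (c.T.getD b []) ∨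
      rep cs h w (toV l (c.T.getD a [])) = -toV l (c.T.getD b [])) ∧
    (∀ w ∈ Subgroup.closure (Gm cs c), (∀ a : Fin k, rep cs h w (toV l (c.T.getD a [])) = toV l (c.T.getD a []) ∨
      rep cs h w (toV l (c.T.getD a [])) = -toV l (c.T.getD a [])) → w = 1) ∧
    Nat.card (Subgroup.closure (Gm cs c)) = N := by
  classical
  have hRel : ∀ g ∈ c.G, _root_.Cfsg.Agent.ClosedExc.WFr.Rel cs h c.T (wd cs (fw g.1)) g.2 := by
    intro g hg
    refine ⟨(hc.gp g hg).1, (hc.gp g hg).2, fun a ha => ?_⟩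
    rw [rep_wd cs h hA (hc.Tl _ (by rw [List.getD_eq_getElem _ _ ha]; exact List.getElem_mem _)), hc.ga g hg a ha]
  have hinv : ∀ g ∈ c.G, (wd cs (fw g.1))⁻¹ = wd cs (fw g.1) := by
    intro g hg
    have h1 := (hRel g hg).mul (hRel g hg)
    rw [hc.gi g hg] at h1
    exact inv_eq_of_mul_eq_one_right (h1.unique hc.span Rel.one)
  set P : Subgroup W := Subgroup.closure (Gm cs c) with hP
  -- the elements of `P`
  have hP1 : ∀ w ∈ P, ∃ σ ∈ c.L, _root_.Cfsg.Agent.ClosedExc.WFr.Rel cs h c.T w σ := by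
    intro w hw
    induction hw using Subgroup.closure_induction_left with
    | one => exact ⟨_, range_mem_allProds _ _, Rel.one⟩
    | mul_left x hx y hy ih =>
      obtain ⟨g, hg, rfl⟩ := hx
      obtain ⟨σ, hσ, hr⟩ := ih
      exact ⟨_, hc.Lg g hg σ hσ, (hRel g hg).mul hr⟩
    | inv_mul_cancel x hx y hy ih =>
      obtain ⟨g, hg, rfl⟩ := hx
      obtain ⟨σ, hσ, hr⟩ := ih
      rw [hinv g hg]
      exact ⟨_, hc.Lg g hg σ hσ, (hRel g hg).mul hr⟩
  -- all permutations occur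
  have hH : ∀ w : List ℕ, (∀ g ∈ w, g < c.G.length) →
      ∃ v ∈ P, _root_.Cfsg.Agent.ClosedExc.WFr.Rel cs h c.T v (hperm c.T.length (c.G.map Prod.snd) w) := by
    intro w
    induction w with
    | nil => exact fun _ => ⟨1, one_mem _, Rel.one⟩
    | cons g w ih =>
      intro hw
      obtain ⟨v, hv, hr⟩ := ih fun a ha => hw a (List.mem_cons_of_mem _ ha)
      have hg := hw g List.mem_cons_self
      have hm := List.getElem_mem hg
      refine ⟨wd cs (fw (c.G[g]).1) * v, mul_mem (Subgroup.subset_closure ⟨_, hm, rfl⟩) hv, ?_⟩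
      have h1 : (c.G.map Prod.snd).getD g [] = (c.G[g]).2 := by
        rw [List.getD_eq_getElem _ _ (by rwa [List.length_map]), List.getElem_map]
      rw [hperm, h1]
      exact (hRel _ hm).mul hr
  have hP2 : ∀ σ ∈ c.L, ∃ w ∈ P, _root_.Cfsg.Agent.ClosedExc.WFr.Rel cs h c.T w σ := by
    have key : ∀ Hs : List (List ℕ), (∀ π ∈ Hs, ∃ v ∈ P, _root_.Cfsg.Agent.ClosedExc.WFr.Rel cs h c.T v π) →
        ∀ σ ∈ allProds c.T.length Hs, ∃ w ∈ P, _root_.Cfsg.Agent.ClosedExc.WFr.Rel cs h c.T w σ := by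
      intro Hs
      induction Hs with
      | nil =>
        intro _ σ hσ
        rw [allProds, List.mem_singleton] at hσ
        subst hσ
        exact ⟨1, one_mem _, Rel.one⟩
      | cons π t ih =>
        intro hπ σ hσ
        rw [allProds, List.mem_append] at hσ
        have ih' := ih fun π' h' => hπ π' (List.mem_cons_of_mem _ h')
        rcases hσ with hσ | hσ
        · exact ih' σ hσ
        · obtain ⟨τ, hτ, rfl⟩ := List.mem_map.1 hσ
          obtain ⟨w, hw, hr⟩ := ih' τ hτ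
          obtain ⟨v, hv, hr'⟩ := hπ π List.mem_cons_self
          exact ⟨v * w, mul_mem hv hw, hr'.mul hr⟩
    refine key _ fun π hπ => ?_
    obtain ⟨w, hw, rfl⟩ := List.mem_map.1 hπ
    exact hH w (hc.Hlt w hw)
  have hget : ∀ a < k, a < c.T.length := fun a ha => lt_of_lt_of_le ha hc.kle
  have hgl : ∀ a < c.T.length, (c.T.getD a []).length = l := fun a ha =>
    hc.Tl _ (by rw [List.getD_eq_getElem _ _ ha]; exact List.getElem_mem _)
  refine ⟨?_, ?_, ?_, ?_⟩
  · intro a ha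
    obtain ⟨h1, h2⟩ := hc.fr a ha
    rw [← h2]
    exact isRoot cs h hA h1
  · intro w hw a
    obtain ⟨σ, hσ, hr⟩ := hP1 w hw
    exact ⟨⟨σ.getD a 0, hc.Lk σ hσ a a.2⟩, Or.inl (hr.eq a (hget a a.2))⟩
  · intro w hw hfix
    obtain ⟨σ, hσ, hr⟩ := hP1 w hw
    have h1 : ∀ a < k, σ.getD a 0 = a := by
      intro a ha
      have h2 := hr.eq a (hget a ha)
      have h3 := hc.Lk σ hσ a ha
      rcases hfix ⟨a, ha⟩ with h4 | h4
      · have h5 := toV_inj (hgl _ (hget _ h3)) (hgl _ (hget a ha)) (h2.symm.trans h4)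
        exact getD_inj hc.Tn (hget _ h3) (hget a ha) h5
      · exfalso
        have h5 : toV l (c.T.getD (σ.getD a 0) []) = toV l ((c.T.getD a []).map fun x => -x) := by
          rw [toV_neg]; exact h2.symm.trans h4
        exact hc.neg _ h3 a ha (toV_inj (hgl _ (hget _ h3)) (by rw [List.length_map]; exact hgl _ (hget a ha)) h5)
    have h2 := hc.Lf σ hσ h1
    subst h2
    exact hr.unique hc.span Rel.one
  · -- the order
    let f : P → {σ // σ ∈ c.L} := fun w =>
      ⟨Classical.choose (hP1 w w.2), (Classical.choose_spec (hP1 w w.2)).1⟩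
    have hf : ∀ w : P, _root_.Cfsg.Agent.ClosedExc.WFr.Rel cs h c.T (w : W) (f w).1 := fun w => (Classical.choose_spec (hP1 w w.2)).2
    have hbij : Function.Bijective f := by
      constructor
      · intro v w e
        have h1 := hf v
        rw [e] at h1
        exact Subtype.ext (h1.unique hc.span (hf w))
      · rintro ⟨σ, hσ⟩
        obtain ⟨w, hw, hr⟩ := hP2 σ hσ
        exact ⟨⟨w, hw⟩, Subtype.ext ((hf ⟨w, hw⟩).perm_unique hc.Tn hc.Tl hr)⟩
    rw [Nat.card_congr (Equiv.ofBijective f hbij)]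
    have h1 : Nat.card {σ // σ ∈ c.L} = c.L.toFinset.card := by
      have e : {σ // σ ∈ c.L} ≃ {σ // σ ∈ c.L.toFinset} := Equiv.subtypeEquivRight fun σ => List.mem_toFinset.symm
      rw [Nat.card_congr e, Nat.card_eq_fintype_card, Fintype.card_coe]
    rw [h1, List.toFinset_card_of_nodup hc.Ln, hc.Lc]

end frame

/-- the list of the roots of the frame -/
def frs (k : ℕ) (c : Cert) : List (List ℕ × ℕ) := (List.range k).map fun a => c.FR.getD a ([], 0)

/-- The additional checks: the sum of the coroots of each generator is the sum of the coroots of a part of the frame modulo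
two; the product of the reflections in the roots of the frame is `-1`. -/
structure Chk (l k : ℕ) (c : Cert) (SS : List (List ℕ)) : Prop where
  lt : ∀ S ∈ SS, ∀ a ∈ S, a < k
  par : ∀ g ∈ c.G, ∃ S ∈ SS, ∀ j < l, ((g.1.map (parZ c.AL l j)).sum +
    ((S.map fun a => c.FR.getD a ([], 0)).map (parZ c.AL l j)).sum) % 2 = 0
  neg : ∀ j < l, act c.AL (fw (frs k c)) (ei l j) = (ei l j).map fun x => -x

section main

variable {D : ChevalleyDatum} {l : ℕ} {M : CoxeterMatrix (Fin l)} (hp : IsType D l M) (K : Type) [Field K] [Fintype K]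

/-- the representatives of the simple reflections -/
theorem simple_lift (p : ℕ) [Fact p.Prime] [CharP K p] {W : Type*} [Group W] (cs : CoxeterSystem M W) (i : Fin l) :
    ∃ m ∈ LL (Chev.XX D l K) (sr i), Rp cs (rgd (K := K) hp cs p).nsys (cs.simple i) m ∧
      SgnEl cs hp.isCartan (TG D K) (Chev.XX D l K) (ph (cartanOf D l) i) (m * m) := by
  have h1 : OddHalf.LongSL.Chev.phi hp K i (SL2Hom.up 1 * SL2Hom.lo (-1) * SL2Hom.up 1) =
      ⟨nn hp K i, nn_mem_group hp i⟩ := Subtype.ext (Chev.phi_n hp K i)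
  refine ⟨OddHalf.LongSL.Chev.phi hp K i (SL2Hom.up 1 * SL2Hom.lo (-1) * SL2Hom.up 1), ?_, ?_, ?_⟩
  · rw [← Chev.range_phi hp K i]; exact ⟨_, rfl⟩
  · rw [h1]
    exact rp_simple cs _ i
  · rw [← map_mul, Chev.sq_eq]
    have h2 := H557.LrChev.sgnEl_zS hp K cs [i]
    have h3 : ph (cartanOf D l) i = H557.LrChev.csz (cartanOf D l) [i] := by
      refine DFunLike.ext _ _ fun x => ?_
      rw [H557.LrChev.csz_apply]
      show ((pairing (cartanOf D l) i x : ℤ) : ZMod 2) = _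
      congr 1
      simp [GenExc.csv]
    rw [h3]
    rw [GenExc.Chev.zS_cons, GenExc.Chev.zS_nil, mul_one] at h2
    exact h2

variable {K}

include hp

/-- **The Chevalley groups with a frame of full rank.** -/
theorem elem_chev (hK : Odd (Fintype.card K)) (hcen : ∀ z : ↥(D.group K), (∀ y, z * y = y * z) → z = 1)
    {W : Type*} [Group W] (cs : CoxeterSystem M W) {k s : ℕ} {c : Cert} {SS : List (List ℕ)}
    (hA : IsTab (cartanOf D l) c.AL) (hc : Ok l k (2 ^ s) c) (hk : Chk l k c SS)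
    (hO1 : ∀ a < k, ∀ b < k, a ≠ b → Orth D l (toV l (c.T.getD a [])) (toV l (c.T.getD b [])))
    (hO2 : ∀ g ∈ c.G, g.1.Pairwise fun p q => Orth D l (toV l (rootOf c.AL l p)) (toV l (rootOf c.AL l q)))
    (hord : ∀ m : ℕ, 2 ^ m ∣ Nat.card ↥(D.group K) →
      2 ^ m ∣ Nat.card ↥(D.diagonalSubgroup K) * 2 ^ s * (Fintype.card K + 1) ^ k) :
    Elem ↥(D.group K) := by
  classical
  obtain ⟨p, hpc⟩ := CharP.exists K
  have hpp : p.Prime := (CharP.char_is_prime_or_zero K p).resolve_right (CharP.char_ne_zero_of_finite K p)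
  have : Fact p.Prime := ⟨hpp⟩
  have hfin : Finite W := finite_W hp cs
  have hp2 : Odd p := by
    obtain ⟨n, -, hn⟩ := FiniteField.card K p
    rw [hn] at hK
    exact (Nat.odd_pow_iff n.pos.ne').1 hK
  have R := rgd (K := K) hp cs p
  obtain ⟨f1, f2, f3, f4⟩ := wframe' cs hp.isCartan hA hc
  have hT : Nat.card (TG D K) = Nat.card ↥(D.diagonalSubgroup K) :=
    Nat.card_congr (Subgroup.subgroupOfEquivOfLe (Cfsg.Agent.ChevalleyStructure.Elts.diagonal_le_group hp.inList K)).toEquiv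
  have F : FrameData cs hp.isCartan (Chev.XX D l K) (fun a : Fin k => toV l (c.T.getD a [])) (Subgroup.closure (Gm cs c)) :=
    ⟨fun a => f1 a a.2, fun a b hab => Chev.lc_of_orth hp K (hO1 a a.2 b b.2 fun e => hab (Fin.ext e)), f2, f3⟩
  have hG := G1_eq_top (K := K) hp cs
  have hs := simple_lift (K := K) hp p cs
  set E := ⨆ a : Fin k, LL (Chev.XX D l K) (toV l (c.T.getD a [])) with hE
  have hfrE : ∀ a < k, LL (Chev.XX D l K) (toV l (rootOf c.AL l (c.FR.getD a ([], 0)))) ≤ E := by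
    intro a ha
    rw [(hc.fr a ha).2]
    exact le_iSup (fun a : Fin k => LL (Chev.XX D l K) (toV l (c.T.getD a []))) ⟨a, ha⟩
  have hNE : NP R (Subgroup.closure (Gm cs c)) ≤ Subgroup.normalizer (E : Set ↥(D.group K)) := NP_le_normalizer R F
  refine FrameElem.frame_elem R F hp2 hG (fun i => Chev.isSL hp K hK i) (IsPGroup.of_card f4) rfl ?_ ?_ ?_
  · -- squares of the elements of the torus
    obtain ⟨e, he, -, heE⟩ := exists_lift R hA hs (frs k c) (fun p hp' => by
      obtain ⟨a, ha, rfl⟩ := List.mem_map.1 hp'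
      exact (hc.fr a (List.mem_range.1 ha)).1) (by
      rw [frs, List.pairwise_map]
      refine List.Pairwise.imp_of_mem ?_ (List.nodup_range (n := k))
      intro a b ha hb hab
      rw [(hc.fr a (List.mem_range.1 ha)).2, (hc.fr b (List.mem_range.1 hb)).2]
      exact Chev.lc_of_orth hp K (hO1 a (List.mem_range.1 ha) b (List.mem_range.1 hb) hab))
    have heE' : e ∈ E := heE E fun p hp' => by
      obtain ⟨a, ha, rfl⟩ := List.mem_map.1 hp'
      exact hfrE a (List.mem_range.1 ha)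
    have hw : ∀ x, rep cs hp.isCartan (wd cs (fw (frs k c))) x = -x := by
      intro x
      have h1 : ∀ j : Fin l, rep cs hp.isCartan (wd cs (fw (frs k c))) (sr j) = -sr j := by
        intro j
        rw [← toV_ei j, rep_wd cs hp.isCartan hA (ei_length l j), hk.neg j j.2, toV_neg]
      conv_lhs => rw [H557.LrOrb.eq_sum_sr x]
      conv_rhs => rw [H557.LrOrb.eq_sum_sr x]
      rw [map_sum, ← Finset.sum_neg_distrib]
      refine Finset.sum_congr rfl fun j _ => ?_
      rw [map_smul, h1, smul_neg]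
    intro t ht
    exact torus_sq R (coords (K := K) hp cs p) (BpExc.TorChev.chAdd (K := K) hp cs p) hG hcen
      ((T_le_NP R).trans hNE) hw he heE' ht
  · -- the generators
    rintro w ⟨g, hg, rfl⟩
    obtain ⟨m, hm, hm2, -⟩ := exists_lift R hA hs g.1 (hc.gl g hg)
      ((hO2 g hg).imp fun ho => Chev.lc_of_orth hp K ho)
    obtain ⟨S, hS, hpar⟩ := hk.par g hg
    have hSl : ∀ p ∈ S.map fun a => c.FR.getD a ([], 0), p.2 < l := by
      intro p hp'
      obtain ⟨a, ha, rfl⟩ := List.mem_map.1 hp'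
      exact (hc.fr a (hk.lt S hS a ha)).1
    obtain ⟨z, hz, hz2⟩ := exists_sq R hA hs (E := E) (S.map fun a => c.FR.getD a ([], 0)) hSl (fun p hp' => by
      obtain ⟨a, ha, rfl⟩ := List.mem_map.1 hp'
      exact hfrE a (hk.lt S hS a ha))
    refine ⟨m, hm, ?_⟩
    rw [sum_par_eq hA (hc.gl g hg) hSl hpar] at hm2
    rw [sgn_ext hG hcen hm2 hz2]
    exact hz
  · intro m hm
    have h8 := hord m hm
    have h9 : ∀ a : Fin k, Nat.card (Chev.XX D l K (toV l (c.T.getD a []))) = Fintype.card K :=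
      fun a => Chev.card_XX hp K cs (f1 a a.2)
    rw [hT, f4]
    simp only [h9, Finset.prod_const, Finset.card_univ, Fintype.card_fin]
    exact h8

end main

/-! ### the rows -/

section rows

open Cfsg.Agent.ClosedExc.Families

theorem chkE7 : Chk 7 7 cE7 [[3], [6]] where
  lt := by decide +kernel
  par := by decide +kernel
  neg := by decide +kernel

theorem chkE8 : Chk 8 8 cE8 [[1, 2], [0, 4]] where
  lt := by decide +kernel
  par := by decide +kernel
  neg := by decide +kernel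

theorem chkF4 : Chk 4 4 cF4 [[0, 1], [0, 2]] where
  lt := by decide +kernel
  par := by decide +kernel
  neg := by decide +kernel

theorem cen_of_simple {G : Type*} [Group G] (h : IsSimpleGroup G ∧ ¬ IsMulCommutative G) :
    ∀ z : G, (∀ y, z * y = y * z) → z = 1 := by
  have := h.1
  intro z hz
  have h2 : z ∈ Subgroup.center G := Subgroup.mem_center_iff.2 fun y => (hz y).symm
  rcases (inferInstance : (Subgroup.center G).Normal).eq_bot_or_eq_top with h1 | h1
  · rw [h1, Subgroup.mem_bot] at h2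
    exact h2
  · exfalso
    apply h.2
    exact ⟨⟨fun a b => by
      have h2 : a ∈ Subgroup.center G := by rw [h1]; exact Subgroup.mem_top a
      exact (Subgroup.mem_center_iff.1 h2 b).symm⟩⟩

variable (K : Type) [Field K] [Fintype K] (hK : Odd (Fintype.card K))

include hK

theorem elem_chevE7 : Elem ↥(chevE7.group K) :=
  elem_chev isType_E7 hK (cen_of_simple (S1054.result chevE7 (by simp))) CoxeterMatrix.E₇.toCoxeterSystem (s := 3)
    tabE7 okE7 chkE7 (fun a ha b hb hab => orth_of (orth1E7 a ha b hb hab))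
    (fun g hg => (orth2E7 g hg).imp fun h => orth_of h)
    (Orders.ord_E7 hK (three_le hK) (Nat.gcd_pos_of_pos_left _ (by norm_num)).ne' (S1064.result (F := K) rfl)
      (S1035.result (F := K) rfl (chevE7, Nat.gcd 2 (Fintype.card K - 1)) (by simp only [_root_.List.mem_cons, _root_.Prod.mk.injEq, _root_.Nat.coprime_two_left, _root_.and_true, _root_.List.not_mem_nil, _root_.or_false, _root_.true_or, _root_.or_true])))

theorem elem_chevE8 : Elem ↥(chevE8.group K) := by
  have hT := S1035.result (F := K) rfl (chevE8, 1) (by simp only [_root_.List.mem_cons, _root_.Prod.mk.injEq, _root_.and_true, _root_.List.not_mem_nil, _root_.or_false, _root_.true_or, _root_.or_true])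
  rw [one_mul] at hT
  exact elem_chev isType_E8 hK (cen_of_simple (S1054.result chevE8 (by simp))) CoxeterMatrix.E₈.toCoxeterSystem (s := 6)
    tabE8 okE8 chkE8 (fun a ha b hb hab => orth_of (orth1E8 a ha b hb hab))
    (fun g hg => (orth2E8 g hg).imp fun h => orth_of h)
    (Orders.ord_E8 hK (three_le hK) (S1065.result (F := K) rfl) hT)

theorem elem_chevF4 : Elem ↥(chevF4.group K) := by
  have hT := S1035.result (F := K) rfl (chevF4, 1) (by simp only [_root_.List.mem_cons, _root_.Prod.mk.injEq, _root_.and_true, _root_.List.not_mem_nil, _root_.or_false, _root_.true_or, _root_.or_true])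
  rw [one_mul] at hT
  exact elem_chev isType_F4 hK (cen_of_simple (S1054.result chevF4 (by simp))) CoxeterMatrix.F₄.toCoxeterSystem (s := 3)
    tabF4 okF4 chkF4 (fun a ha b hb hab => orth_of (orth1F4 a ha b hb hab))
    (fun g hg => (orth2F4 g hg).imp fun h => orth_of h)
    (Orders.ord_F4 hK (three_le hK) (S1062.result (F := K) rfl) hT)

end rows

end Cfsg.Agent.H775.Sd.ChevElem
end

-- part: H335/Sd/LemA
section
/-!
# S4579, frames: realness lemmas for linear characters of Sylow `2`-subgroups (helper335)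

* `real_of_perm` : lifting of involutions from `M / H ≤ Sym(4)`;
* `real_on_sup` : `f` real on `Q ∩ N₁` and on `Q ∩ T` is real on `Q ∩ N₁ T`;
* `real_on_blocks` : `f` is real on `Q ∩ K₁ ⋯ K₄` (commuting subgroups with `Elem`).
-/

set_option autoImplicit false

namespace Cfsg.Agent.H335.Sd.LemA

open Cfsg.Agent.H643.Sd

variable {Y : Type*} [Group Y] [Finite Y]

/-- If `e` is a `2`-element with `e ∈ Q H`, `Q` normalising `H`, then some `H`-conjugate of `e` lies in `Q`. -/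
theorem exists_conj_mem (Q : Sylow 2 Y) (H : Subgroup Y) (hQH : ∀ x ∈ (Q : Subgroup Y), ∀ y ∈ H, x * y * x⁻¹ ∈ H)
    {e : Y} {k : ℕ} (he2 : e ^ 2 ^ k = 1) (he : ∃ x ∈ (Q : Subgroup Y), ∃ y ∈ H, e = x * y) :
    ∃ y ∈ H, y * e * y⁻¹ ∈ (Q : Subgroup Y) := by
  classical
  set L : Subgroup Y := (Q : Subgroup Y) ⊔ H with hL
  have hn : (Q : Subgroup Y) ≤ Subgroup.normalizer (H : Set Y) := by
    intro x hx
    rw [Subgroup.mem_normalizer_iff]
    intro y
    refine ⟨fun hy => hQH x hx y hy, fun hy => ?_⟩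
    have h1 := hQH x⁻¹ (inv_mem hx) _ hy
    have h2 : x⁻¹ * (x * y * x⁻¹) * x⁻¹⁻¹ = y := by group
    rwa [h2] at h1
  have hQL : (Q : Subgroup Y) ≤ L := le_sup_left
  obtain ⟨x, hx, y, hy, rfl⟩ := he
  have heL : x * y ∈ L := mul_mem (hQL hx) (Subgroup.mem_sup_right hy)
  -- `Q` is Sylow in `L`
  let QL : Sylow 2 L := Q.subtype hQL
  have hp : IsPGroup 2 (Subgroup.zpowers (⟨x * y, heL⟩ : L)) := by
    rw [IsPGroup.iff_card]
    have h1 : orderOf (⟨x * y, heL⟩ : L) ∣ 2 ^ k := by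
      apply orderOf_dvd_of_pow_eq_one
      apply Subtype.ext
      simpa only [_root_.SubmonoidClass.mk_pow, _root_.OneMemClass.coe_one] using he2
    rw [Nat.card_zpowers]
    exact ((Nat.dvd_prime_pow Nat.prime_two).1 h1).imp fun n hn => hn.2
  obtain ⟨P, hP⟩ := hp.exists_le_sylow
  obtain ⟨g, hg⟩ := MulAction.exists_smul_eq L P QL
  have h1 : g * ⟨x * y, heL⟩ * g⁻¹ ∈ (QL : Subgroup L) := by
    rw [← hg]
    have h2 : (⟨x * y, heL⟩ : L) ∈ (P : Subgroup L) := hP (Subgroup.mem_zpowers _)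
    rw [Sylow.smul_def, Sylow.pointwise_smul_def]
    exact Subgroup.smul_mem_pointwise_smul _ (MulAut.conj g) _ h2
  have h2 : (g : Y) * (x * y) * (g : Y)⁻¹ ∈ (Q : Subgroup Y) := by
    have := h1
    rwa [Sylow.coe_subtype, Subgroup.mem_subgroupOf] at this
  obtain ⟨a, ha, b, hb, hab⟩ : ∃ a ∈ (Q : Subgroup Y), ∃ b ∈ H, a * b = (g : Y) := by
    have h3 : (g : Y) ∈ ((((Q : Subgroup Y) ⊔ H : Subgroup Y)) : Set Y) := g.2
    rw [Subgroup.coe_mul_of_left_le_normalizer_right _ _ hn, Set.mem_mul] at h3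
    exact h3
  refine ⟨b, hb, ?_⟩
  have h3 : b * (x * y) * b⁻¹ = a⁻¹ * ((g : Y) * (x * y) * (g : Y)⁻¹) * a := by
    rw [← hab]; group
  rw [h3]
  exact mul_mem (mul_mem (inv_mem ha) h2) ha

end Cfsg.Agent.H335.Sd.LemA
end

-- part: H335/Sd/LemB
section
/-!
# S4579, frames: realness on `Q ∩ K₁ ⋯ K₄ T` (helper335)
-/

set_option autoImplicit false
set_option linter.unusedSectionVars false

namespace Cfsg.Agent.H335.Sd.LemB

open Cfsg.Agent.H643.Sd

variable {Y : Type*} [Group Y] [Finite Y]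

/-- an exponent which is `1` modulo a power of two and kills the odd part -/
theorem exists_exp (x : Y) {a : ℕ} (hx : x ^ 2 ^ a = 1) (b : ℕ) (hb : b ≠ 0) :
    ∃ m : ℕ, x ^ m = x ∧ ∃ k : ℕ, b ∣ m * 2 ^ k := by
  obtain ⟨k, c, hc, hbc⟩ := Nat.exists_eq_two_pow_mul_odd hb
  have hcop : (2 ^ a).Coprime c := Nat.Coprime.pow_left a (Nat.coprime_two_left.2 hc)
  obtain ⟨m, hm1, hm2⟩ := Nat.chineseRemainder hcop 1 0
  refine ⟨m, ?_, k, ?_⟩
  · have h1 : m ≡ 1 [MOD orderOf x] := hm1.of_dvd (orderOf_dvd_of_pow_eq_one hx)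
    have h2 := (pow_eq_pow_iff_modEq (x := x)).2 h1
    rwa [pow_one] at h2
  · rw [hbc]
    have h1 : c ∣ m := (Nat.modEq_zero_iff_dvd).1 hm2
    rw [mul_comm m]
    exact mul_dvd_mul_left _ h1

/-- `f` is real on `Q ∩ N₁ T`. -/
theorem real_on_sup (Q : Sylow 2 Y) (N1 T : Subgroup Y) (hn : ∀ t ∈ T, ∀ x ∈ N1, t * x * t⁻¹ ∈ N1)
    (hT : ∀ t ∈ T, (∃ k : ℕ, t ^ 2 ^ k = 1) → t ∈ (Q : Subgroup Y)) (f : (Q : Subgroup Y) →* ℂˣ)
    (h1 : ∀ x : (Q : Subgroup Y), (x : Y) ∈ N1 → f x ^ 2 = 1)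
    (h2 : ∀ x : (Q : Subgroup Y), (x : Y) ∈ T → f x ^ 2 = 1) :
    ∀ x : (Q : Subgroup Y), (x : Y) ∈ N1 ⊔ T → f x ^ 2 = 1 := by
  intro x hx
  have hnT : T ≤ Subgroup.normalizer (N1 : Set Y) := by
    intro t ht
    rw [Subgroup.mem_normalizer_iff]
    intro y
    refine ⟨fun hy => hn t ht y hy, fun hy => ?_⟩
    have h3 := hn t⁻¹ (inv_mem ht) _ hy
    have h4 : t⁻¹ * (t * y * t⁻¹) * t⁻¹⁻¹ = y := by group
    rwa [h4] at h3
  obtain ⟨n, hn1, t, ht, hnt⟩ : ∃ n ∈ N1, ∃ t ∈ T, n * t = (x : Y) := by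
    have h3 : (x : Y) ∈ ((N1 ⊔ T : Subgroup Y) : Set Y) := hx
    rw [Subgroup.coe_mul_of_right_le_normalizer_left _ _ hnT, Set.mem_mul] at h3
    exact h3
  obtain ⟨a, ha⟩ := Q.2 x
  have ha' : (x : Y) ^ 2 ^ a = 1 := by simpa only [_root_.SubmonoidClass.coe_pow, _root_.OneMemClass.coe_one] using congrArg Subtype.val ha
  obtain ⟨m, hm, k, hk⟩ := exists_exp (x : Y) ha' (Nat.card Y) Nat.card_pos.ne'
  have hpow : ∀ j : ℕ, ∃ y ∈ N1, (x : Y) ^ j = y * t ^ j := by
    intro j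
    induction j with
    | zero => exact ⟨1, one_mem _, by simp⟩
    | succ j ih =>
      obtain ⟨y, hy, e⟩ := ih
      refine ⟨y * (t ^ j * n * (t ^ j)⁻¹), mul_mem hy (hn _ (pow_mem ht j) n hn1), ?_⟩
      rw [pow_succ, e, ← hnt, pow_succ]
      group
  obtain ⟨y, hy, e⟩ := hpow m
  rw [hm] at e
  have htm : t ^ m ∈ (Q : Subgroup Y) := by
    refine hT _ (pow_mem ht m) ⟨k, ?_⟩
    rw [← pow_mul]
    obtain ⟨c, hc⟩ := hk
    rw [hc, pow_mul, pow_card_eq_one', one_pow]
  have hyQ : y ∈ (Q : Subgroup Y) := by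
    have h3 : y = (x : Y) * (t ^ m)⁻¹ := by rw [e]; group
    rw [h3]
    exact mul_mem x.2 (inv_mem htm)
  have h3 : x = ⟨y, hyQ⟩ * ⟨t ^ m, htm⟩ := Subtype.ext e
  rw [h3, map_mul, mul_pow, h1 ⟨y, hyQ⟩ hy, h2 ⟨t ^ m, htm⟩ (pow_mem ht m), one_mul]

/-- If `Q ∩ L` is Sylow in `L` and `K ≤ L` is normal in `L`, then `Q ∩ K` is Sylow in `K`. -/
theorem not_dvd_relIndex_of (Q : Subgroup Y) (hQ : IsPGroup 2 Q) {K L : Subgroup Y} (hKL : K ≤ L)
    (hn : ∀ m ∈ L, ∀ x ∈ K, m * x * m⁻¹ ∈ K) (h : ¬ 2 ∣ Q.relIndex L) : ¬ 2 ∣ Q.relIndex K := by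
  have hp : IsPGroup 2 (Q.subgroupOf L) := hQ.comap_of_injective L.subtype L.subtype_injective
  set S : Sylow 2 L := hp.toSylow h with hS
  have hS' : (S : Subgroup L) = Q.subgroupOf L := IsPGroup.toSylow_coe _ _
  have hN : (K.subgroupOf L).Normal := by
    refine ⟨fun x hx g => ?_⟩
    rw [Subgroup.mem_subgroupOf] at hx ⊢
    exact hn g g.2 x hx
  have h1 := Cfsg.Agent.Lib.SylowNormalInf.not_dvd_relIndex S (K.subgroupOf L)
  rwa [hS', Subgroup.relIndex_subgroupOf hKL] at h1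

/-- A linear character of `Q` is real on `Q ∩ K` if `K` has `Elem` and `Q ∩ K` is Sylow in `K`. -/
theorem real_of_elem (Q : Sylow 2 Y) {K : Subgroup Y} (hK : Elem K) (h : ¬ 2 ∣ (Q : Subgroup Y).relIndex K)
    (f : (Q : Subgroup Y) →* ℂˣ) (x : (Q : Subgroup Y)) (hx : (x : Y) ∈ K) : f x ^ 2 = 1 := by
  have hp : IsPGroup 2 ((Q : Subgroup Y).subgroupOf K) := Q.2.comap_of_injective K.subtype K.subtype_injective
  set S : Sylow 2 K := hp.toSylow h with hS
  have hS' : (S : Subgroup K) = (Q : Subgroup Y).subgroupOf K := IsPGroup.toSylow_coe _ _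
  have hmem : ∀ y : (S : Subgroup K), ((y : K) : Y) ∈ (Q : Subgroup Y) := by
    intro y
    exact hS'.le y.2
  let i : (S : Subgroup K) →* (Q : Subgroup Y) :=
    { toFun := fun y => ⟨((y : K) : Y), hmem y⟩
      map_one' := rfl
      map_mul' := fun _ _ => rfl }
  have hxS : (⟨(x : Y), hx⟩ : K) ∈ (S : Subgroup K) := by
    rw [hS', Subgroup.mem_subgroupOf]
    exact x.2
  exact hK S (f.comp i) ⟨⟨(x : Y), hx⟩, hxS⟩

end Cfsg.Agent.H335.Sd.LemB
end

-- part: H335/Sd/Frame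
section
/-!
# S4579, frames: realness (helper335)

`real_of_frame` : `R` a root group datum of `Y`, a frame with a `2`-group `P` of permutations, `M = E.N_P`; `Q ≤ M` a Sylow
`2`-subgroup of `Y` containing the `2`-elements of the torus; the generators of `P` are represented by involutions. Then a
linear character of `Q` which is real on `Q ∩ T` is real.
-/

set_option autoImplicit false
set_option linter.unusedSectionVars false

namespace Cfsg.Agent.H335.Sd.Frame

open CoxeterSystem Cfsg.Agent.ChevalleyStructure.CoxeterGeom Cfsg.Agent.Tits.Roots Cfsg.Agent.Tits.Core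
  Cfsg.Agent.Nodes.Reps Cfsg.Agent.Nodes.BNOf Cfsg.Agent.Nodes.Bruhat Cfsg.Agent.Nodes.FreeTorus
  Cfsg.Agent.ClosedTwo.Torus Cfsg.Agent.ClosedTwo.Elem Cfsg.Agent.ClosedExc Cfsg.Agent.ClosedExc.Rk
  Cfsg.Agent.ClosedExc.Prod Cfsg.Agent.ClosedExc.Frame Cfsg.Agent.H643.Sd Cfsg.Agent.H335.Sd.LemA
  Cfsg.Agent.H335.Sd.LemB Cfsg.Agent.H775.Sd.FrameElem

variable {I W Y : Type*} [Fintype I] [DecidableEq I] [Group W] [Group Y] {M : CoxeterMatrix I}
  {cs : CoxeterSystem M W} {C : I → I → ℤ} {h : IsCartan M C} {p : ℕ} {T : Subgroup Y} {n : I → Y}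
  {X : (I → ℤ) → Subgroup Y} (R : RGD cs h p T n X) [Finite W] [Finite Y]
  {ι : Type*} [Fintype ι] {β : ι → (I → ℤ)} {P : Subgroup W} (F : FrameData cs h X β P)

/-- The frame group. -/
def FM (R : RGD cs h p T n X) (β : ι → (I → ℤ)) (P : Subgroup W) : Subgroup Y := (⨆ a, LL X (β a)) ⊔ NP R P

include F in
theorem mem_FM {x : Y} : x ∈ FM R β P ↔ ∃ y ∈ ⨆ a, LL X (β a), ∃ w ∈ P, ∃ g, Rp cs R.nsys w g ∧ x = y * g := by
  constructor
  · intro hx
    have hx' : x ∈ (((⨆ a, LL X (β a)) ⊔ NP R P : Subgroup Y) : Set Y) := hx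
    rw [Subgroup.coe_mul_of_right_le_normalizer_left _ _ (NP_le_normalizer R F), Set.mem_mul] at hx'
    obtain ⟨y, hy, g, ⟨w, hw, hg⟩, rfl⟩ := hx'
    exact ⟨y, hy, w, hw, g, hg, rfl⟩
  · rintro ⟨y, hy, w, hw, g, hg, rfl⟩
    exact mul_mem (Subgroup.mem_sup_left hy) (Subgroup.mem_sup_right ⟨w, hw, hg⟩)

/-- `x` lies over `w` -/
def Ov (R : RGD cs h p T n X) (β : ι → (I → ℤ)) (w : W) (x : Y) : Prop :=
  ∃ y ∈ ⨆ a, LL X (β a), ∃ g, Rp cs R.nsys w g ∧ x = y * g

include F in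
theorem Ov.mul {v w : W} (hv : v ∈ P) {a b : Y} (ha : Ov R β v a) (hb : Ov R β w b) :
    Ov R β (v * w) (a * b) := by
  obtain ⟨y, hy, g, hg, rfl⟩ := ha
  obtain ⟨z, hz, k, hk, rfl⟩ := hb
  have h1 : g * z * g⁻¹ ∈ ⨆ a, LL X (β a) :=
    (Subgroup.mem_normalizer_iff.1 (NP_le_normalizer R F ⟨v, hv, hg⟩) z).1 hz
  exact ⟨y * (g * z * g⁻¹), mul_mem hy h1, g * k, hg.mul hk, by group⟩

include F in
theorem Ov.inv {v : W} (hv : v ∈ P) {a : Y} (ha : Ov R β v a) : Ov R β v⁻¹ a⁻¹ := by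
  obtain ⟨y, hy, g, hg, rfl⟩ := ha
  have h1 : g⁻¹ * y⁻¹ * g⁻¹⁻¹ ∈ ⨆ a, LL X (β a) :=
    (Subgroup.mem_normalizer_iff.1 (NP_le_normalizer R F ⟨v⁻¹, inv_mem hv, hg.inv⟩) y⁻¹).1 (inv_mem hy)
  exact ⟨_, h1, g⁻¹, hg.inv, by group⟩

include F in
theorem Ov.one_iff {a : Y} : Ov R β (1 : W) a ↔ a ∈ (⨆ a, LL X (β a)) ⊔ T := by
  constructor
  · rintro ⟨y, hy, g, hg, rfl⟩
    exact mul_mem (Subgroup.mem_sup_left hy) (Subgroup.mem_sup_right hg.mem_of_one)
  · intro ha
    have ha' : a ∈ (((⨆ a, LL X (β a)) ⊔ T : Subgroup Y) : Set Y) := ha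
    rw [Subgroup.coe_mul_of_right_le_normalizer_left _ _ ((T_le_NP R).trans (NP_le_normalizer R F)), Set.mem_mul] at ha'
    obtain ⟨y, hy, t, ht, rfl⟩ := ha'
    exact ⟨y, hy, t, rp_of_mem ht, rfl⟩

include F in
/-- `H = E T` is normal in `M`. -/
theorem H_normal {m : Y} (hm : m ∈ FM R β P) {x : Y} (hx : x ∈ (⨆ a, LL X (β a)) ⊔ T) :
    m * x * m⁻¹ ∈ (⨆ a, LL X (β a)) ⊔ T := by
  obtain ⟨y, hy, w, hw, g, hg, rfl⟩ := (mem_FM R F).1 hm
  have h1 : Ov R β w (y * g) := ⟨y, hy, g, hg, rfl⟩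
  have h2 := (h1.mul R F hw ((Ov.one_iff R F).2 hx)).mul R F (by rw [mul_one]; exact hw) (h1.inv R F hw)
  rw [mul_one, mul_inv_cancel] at h2
  exact (Ov.one_iff R F).1 h2

include F in
/-- some power of two of an element of `M` lies in `H` -/
theorem pow_mem_H (hP : IsPGroup 2 ↥P) {m : Y} (hm : m ∈ FM R β P) : ∃ k : ℕ, m ^ 2 ^ k ∈ (⨆ a, LL X (β a)) ⊔ T := by
  obtain ⟨y, hy, w, hw, g, hg, rfl⟩ := (mem_FM R F).1 hm
  have h1 : Ov R β w (y * g) := ⟨y, hy, g, hg, rfl⟩
  obtain ⟨k, hk⟩ := hP ⟨w, hw⟩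
  have hk' : w ^ 2 ^ k = 1 := congrArg Subtype.val hk
  have h2 : ∀ j : ℕ, Ov R β (w ^ j) ((y * g) ^ j) := by
    intro j
    induction j with
    | zero => rw [pow_zero, pow_zero]; exact (Ov.one_iff R F).2 (one_mem _)
    | succ j ih => rw [pow_succ, pow_succ]; exact ih.mul R F (pow_mem hw j) h1
  refine ⟨k, ?_⟩
  have h3 := h2 (2 ^ k)
  rw [hk'] at h3
  exact (Ov.one_iff R F).1 h3

include F in
/-- `M = Q H` -/
theorem exists_mem_Q (hP : IsPGroup 2 ↥P) (Q : Sylow 2 Y) (hQ : (Q : Subgroup Y) ≤ FM R β P) {m : Y}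
    (hm : m ∈ FM R β P) : ∃ x ∈ (Q : Subgroup Y), ∃ y ∈ (⨆ a, LL X (β a)) ⊔ T, m = x * y := by
  classical
  set H : Subgroup Y := (⨆ a, LL X (β a)) ⊔ T with hH
  have hHM : H ≤ FM R β P := sup_le le_sup_left ((T_le_NP R).trans le_sup_right)
  have hN : (H.subgroupOf (FM R β P)).Normal := by
    refine ⟨fun x hx g => ?_⟩
    rw [Subgroup.mem_subgroupOf] at hx ⊢
    exact H_normal R F g.2 hx
  have hq : IsPGroup 2 (↥(FM R β P) ⧸ H.subgroupOf (FM R β P)) := by
    intro y
    obtain ⟨⟨x, hx⟩, rfl⟩ := QuotientGroup.mk'_surjective _ y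
    obtain ⟨k, hk⟩ := pow_mem_H R F hP hx
    refine ⟨k, ?_⟩
    rw [← map_pow]
    exact (QuotientGroup.eq_one_iff _).2 (Subgroup.mem_subgroupOf.2 hk)
  set S : Sylow 2 (↥(FM R β P) ⧸ H.subgroupOf (FM R β P)) :=
    (Q.subtype hQ).mapSurjective (QuotientGroup.mk'_surjective (H.subgroupOf (FM R β P))) with hS
  have hS1 : (S : Subgroup (↥(FM R β P) ⧸ H.subgroupOf (FM R β P))) = ⊤ :=
    (S.is_maximal' (hq.to_subgroup ⊤) le_top).symm
  have hS2 : (S : Subgroup (↥(FM R β P) ⧸ H.subgroupOf (FM R β P))) =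
      ((Q.subtype hQ : Sylow 2 ↥(FM R β P)) : Subgroup ↥(FM R β P)).map (QuotientGroup.mk' _) :=
    Sylow.coe_mapSurjective _ _
  have h1 : QuotientGroup.mk' (H.subgroupOf (FM R β P)) ⟨m, hm⟩ ∈
      ((Q.subtype hQ : Sylow 2 ↥(FM R β P)) : Subgroup ↥(FM R β P)).map (QuotientGroup.mk' _) := by
    rw [← hS2, hS1]
    exact Subgroup.mem_top _
  obtain ⟨⟨x, hx⟩, hxQ, e⟩ := h1
  have hxQ' : x ∈ (Q : Subgroup Y) := by
    have := hxQ
    rwa [Sylow.coe_subtype] at this
  have h2 : (⟨x, hx⟩ : ↥(FM R β P))⁻¹ * ⟨m, hm⟩ ∈ H.subgroupOf (FM R β P) := QuotientGroup.eq.1 e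
  exact ⟨x, hxQ', x⁻¹ * m, Subgroup.mem_subgroupOf.1 h2, by group⟩

include F in
/-- **The frame lemma, realness.** -/
theorem real_of_frame (hSL : ∀ i, IsSL (LL X (sr i))) (hP : IsPGroup 2 ↥P) {Γ : Set W} (hPΓ : P = Subgroup.closure Γ)
    (hΓ : ∀ w ∈ Γ, ∃ g, Rp cs R.nsys w g ∧ g * g = 1) (Q : Sylow 2 Y) (hQ : (Q : Subgroup Y) ≤ FM R β P)
    (hT : ∀ t ∈ T, (∃ k : ℕ, t ^ 2 ^ k = 1) → t ∈ (Q : Subgroup Y)) (f : (Q : Subgroup Y) →* ℂˣ)
    (hf : ∀ x : (Q : Subgroup Y), (x : Y) ∈ T → f x ^ 2 = 1) : ∀ x, f x ^ 2 = 1 := by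
  classical
  set E : Subgroup Y := ⨆ a, LL X (β a) with hE
  have hSL' : ∀ x, IsRoot cs h x → IsSL (LL X x) := fun x hx => isSL_of_root R hSL hx
  have hEE : Elem ↥E := elem_iSup (fun a => elem_of_isSL (hSL' _ (F.root a))) F.orth
  have hEM : E ≤ FM R β P := le_sup_left
  have hEn : ∀ m ∈ FM R β P, ∀ x ∈ E, m * x * m⁻¹ ∈ E := by
    intro m hm x hx
    have h1 : FM R β P ≤ Subgroup.normalizer (E : Set Y) := sup_le Subgroup.le_normalizer (NP_le_normalizer R F)
    exact (Subgroup.mem_normalizer_iff.1 (h1 hm) x).1 hx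
  have hQE : ¬ 2 ∣ (Q : Subgroup Y).relIndex E := by
    refine not_dvd_relIndex_of _ Q.2 hEM hEn ?_
    intro h1
    have : Fact (Nat.Prime 2) := ⟨Nat.prime_two⟩
    exact (Q.subtype hQ).not_dvd_index h1
  -- `f` is real on `Q ∩ H`
  have hH : ∀ x : (Q : Subgroup Y), (x : Y) ∈ E ⊔ T → f x ^ 2 = 1 := by
    refine real_on_sup Q E T ?_ hT f (fun x hx => real_of_elem Q hEE hQE f x hx) hf
    intro t ht x hx
    exact hEn t (hEM.trans le_rfl |> fun _ => Subgroup.mem_sup_right (T_le_NP R ht)) x hx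
  -- the elements over the elements of `P`
  have key : ∀ w ∈ Subgroup.closure Γ, ∀ x : (Q : Subgroup Y), Ov R β w (x : Y) → f x ^ 2 = 1 := by
    intro w hw
    induction hw using Subgroup.closure_induction with
    | mem w hw =>
      intro x hx
      obtain ⟨g, hg, hgg⟩ := hΓ w hw
      have hwP : w ∈ P := by rw [hPΓ]; exact Subgroup.subset_closure hw
      have hgM : g ∈ FM R β P := Subgroup.mem_sup_right ⟨w, hwP, hg⟩
      have hgO : Ov R β w g := ⟨1, one_mem _, g, hg, (one_mul g).symm⟩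
      obtain ⟨y, hy, hyQ⟩ := _root_.Cfsg.Agent.H335.Sd.LemA.exists_conj_mem Q (E ⊔ T) (fun a ha b hb => H_normal R F (hQ ha) hb) (e := g) (k := 1)
        (by rw [pow_one, pow_two, hgg]) (exists_mem_Q R F hP Q hQ hgM)
      have hyO : Ov R β 1 y := (Ov.one_iff R F).2 hy
      have h1 : Ov R β w (y * g * y⁻¹) := by
        have h2 := (hyO.mul R F (one_mem _) hgO).mul R F (by rw [one_mul]; exact hwP) (hyO.inv R F (one_mem _))
        rwa [one_mul, inv_one, mul_one] at h2
      set z : (Q : Subgroup Y) := ⟨y * g * y⁻¹, hyQ⟩ with hz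
      have hfz : f z ^ 2 = 1 := by
        rw [← map_pow]
        have h2 : z ^ 2 = 1 := by
          apply Subtype.ext
          show (y * g * y⁻¹) ^ 2 = 1
          rw [pow_two]
          calc y * g * y⁻¹ * (y * g * y⁻¹) = y * (g * g) * y⁻¹ := by group
            _ = 1 := by rw [hgg]; group
        rw [h2, map_one]
      have h3 : f (x * z⁻¹) ^ 2 = 1 := by
        apply hH
        have h4 := hx.mul R F hwP (h1.inv R F hwP)
        rw [mul_inv_cancel] at h4
        exact (Ov.one_iff R F).1 h4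
      have h4 : f x = f (x * z⁻¹) * f z := by rw [← map_mul, inv_mul_cancel_right]
      rw [h4, mul_pow, hfz, h3, one_mul]
    | one =>
      intro x hx
      exact hH x ((Ov.one_iff R F).1 hx)
    | mul v w hv hw ihv ihw =>
      intro x hx
      have hvP : v ∈ P := by rw [hPΓ]; exact hv
      have hwP : w ∈ P := by rw [hPΓ]; exact hw
      -- an element of `Q` over `w`
      obtain ⟨g, hg⟩ := exists_rp cs R.nsys w
      obtain ⟨a, ha, b, hb, e⟩ := exists_mem_Q R F hP Q hQ (m := g) (Subgroup.mem_sup_right ⟨w, hwP, hg⟩)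
      have haO : Ov R β w a := by
        have h1 : Ov R β w g := ⟨1, one_mem _, g, hg, (one_mul g).symm⟩
        have h2 := h1.mul R F hwP (((Ov.one_iff R F).2 hb).inv R F (one_mem _))
        rw [inv_one, mul_one, e, mul_inv_cancel_right] at h2
        exact h2
      have h1 := ihw ⟨a, ha⟩ haO
      have h2 : f (x * (⟨a, ha⟩ : (Q : Subgroup Y))⁻¹) ^ 2 = 1 := by
        apply ihv
        have h3 := hx.mul R F (mul_mem hvP hwP) (haO.inv R F hwP)
        rwa [mul_inv_cancel_right] at h3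
      have h4 : f x = f (x * (⟨a, ha⟩ : (Q : Subgroup Y))⁻¹) * f ⟨a, ha⟩ := by
        rw [← map_mul, inv_mul_cancel_right]
      rw [h4, mul_pow, h1, h2, one_mul]
    | inv w hw ih =>
      intro x hx
      have hwP : w ∈ P := by rw [hPΓ]; exact hw
      have h1 := hx.inv R F (inv_mem hwP)
      rw [inv_inv] at h1
      have h2 := ih x⁻¹ h1
      rw [map_inv, inv_pow, inv_eq_one] at h2
      exact h2
  intro x
  obtain ⟨y, hy, w, hw, g, hg, e⟩ := (mem_FM R F).1 (hQ x.2)
  exact key w (by rw [← hPΓ]; exact hw) x ⟨y, hy, g, hg, e⟩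

end Cfsg.Agent.H335.Sd.Frame
end

private theorem dce_67ea4db6691f : _root_.True := by
  try have : _root_.True := by simp only [_root_.Cfsg.Agent.H775.Sd.ChevElem.frs.eq_1]
  try have : _root_.True := by simp only [_root_.Cfsg.Agent.H775.Sd.Sgn.par.congr_simp]
  try have : _root_.True := by simp only [_root_.Subgroup.noncommPiCoprod.congr_simp]
  try have : _root_.True := by simp only [_root_.Cfsg.Agent.GenExc.csv.eq_1]
  try have : _root_.True := by simp only [_root_.Cfsg.Agent.H775.Sd.Sgn.par.eq_1]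
  exact _root_.True.intro
end

-- part: H491/Sd/Frames
section
prune_inst 0x140000000018001080000001640000020060000011600c04000651012040000174000810111008700000002000100000021000000000020040180120802010008008a000020007002807180c00000000000000000000000000041000000000000
set_option linter.all false
open scoped Cfsg.Agent.FastGrp

/-!
# Frame groups over the torus (helper491, S4579)

`R : RGD cs h p T n X`, `β` a frame of roots with commuting rank one groups, `P` a subgroup of the Weyl group permuting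
`{± β a}` faithfully (`FrameData`).

* `MF R β P = (⨆ a, LL X (β a)) ⊔ NP R P`, `Fr R β P` : the `N_Y(T)`-conjugates of `MF R β P`;
* `PM γ` : `γ` fixes `T` and all `X x`, or maps all `X x` to `X (-x)`;
* `frames : Frames T (Fr R β P)`, if `MF R β P` has odd index, the 2-part of `|W|` divides `2 ^ k |P|` and every
  automorphism of the frame `(T, X (± α_i))` is in `PM` after multiplication by an element of `N_Y(T)`.
-/

set_option autoImplicit false
set_option linter.unusedSectionVars false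

namespace Cfsg.Agent.H491.Sd

open CoxeterSystem Cfsg.Agent.ChevalleyStructure.CoxeterGeom Cfsg.Agent.Tits.Roots Cfsg.Agent.Tits.Core
  Cfsg.Agent.Nodes.Reps Cfsg.Agent.Nodes.BNOf Cfsg.Agent.Nodes.Bruhat Cfsg.Agent.Nodes.OppDec
  Cfsg.Agent.KFacts.RgdAut Cfsg.Agent.KFacts.RgdDiag Cfsg.Agent.Nodes.FreeTorus
  Cfsg.Agent.ClosedExc Cfsg.Agent.ClosedExc.Rk Cfsg.Agent.ClosedExc.Prod Cfsg.Agent.ClosedExc.Frame
  Cfsg.Agent.H55.Sd

section

variable {I W Y : Type*} [Fintype I] [DecidableEq I] [Group W] [Group Y] {M : CoxeterMatrix I}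
  {cs : CoxeterSystem M W} {C : I → I → ℤ} {h : IsCartan M C} {p : ℕ} {T : Subgroup Y} {n : I → Y}
  {X : (I → ℤ) → Subgroup Y} {ι : Type*}

/-- The frame group. -/
def MF (R : RGD cs h p T n X) (β : ι → (I → ℤ)) (P : Subgroup W) : Subgroup Y := (⨆ a, LL X (β a)) ⊔ NP R P

/-- The frame groups over `T`. -/
def Fr (R : RGD cs h p T n X) (β : ι → (I → ℤ)) (P : Subgroup W) : Set (Subgroup Y) :=
  {K | ∃ m ∈ Subgroup.normalizer (T : Set Y), K = cj m (MF R β P)}

/-- `γ` fixes `T` and all root groups, or `T` and maps all root groups to the opposite ones. -/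
structure PM (cs : CoxeterSystem M W) (h : IsCartan M C) (T : Subgroup Y) (X : (I → ℤ) → Subgroup Y)
    (γ : MulAut Y) : Prop where
  tor : Fix γ T
  root : (∀ x, IsRoot cs h x → ∀ y, γ y ∈ X x ↔ y ∈ X x) ∨ (∀ x, IsRoot cs h x → ∀ y, γ y ∈ X (-x) ↔ y ∈ X x)

theorem map_eq_of_iff {γ : MulAut Y} {H K : Subgroup Y} (hHK : ∀ y, γ y ∈ K ↔ y ∈ H) : H.map γ.toMonoidHom = K := by
  ext x
  constructor
  · rintro ⟨y, hy, rfl⟩
    exact (hHK y).2 hy
  · intro hx
    refine ⟨γ⁻¹ x, (hHK _).1 (by rwa [MulAut.apply_inv_self]), ?_⟩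
    exact MulAut.apply_inv_self _ γ x

theorem map_cj {γ : MulAut Y} (m : Y) (H : Subgroup Y) :
    (cj m H).map γ.toMonoidHom = cj (γ m) (H.map γ.toMonoidHom) := by
  unfold cj
  rw [Subgroup.map_map, Subgroup.map_map]
  congr 1
  ext x
  show γ (m * x * m⁻¹) = γ m * γ x * (γ m)⁻¹
  rw [map_mul, map_mul, map_inv]

theorem PM.map_LL {γ : MulAut Y} (hγ : PM cs h T X γ) {x : I → ℤ} (hx : IsRoot cs h x) :
    (LL X x).map γ.toMonoidHom = LL X x := by
  unfold LL
  rw [Subgroup.map_sup]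
  rcases hγ.root with h1 | h1
  · rw [map_eq_of_iff (h1 x hx), map_eq_of_iff (h1 (-x) hx.neg)]
  · have h2 := h1 (-x) hx.neg
    rw [neg_neg] at h2
    rw [map_eq_of_iff (h1 x hx), map_eq_of_iff h2, sup_comm]

variable (R : RGD cs h p T n X)

include R

theorem PM.map_NP [Finite W] (hG : GG cs h T X = ⊤) (hno : NoFix cs h T X) {γ : MulAut Y} (hγ : PM cs h T X γ)
    (P : Subgroup W) : (NP R P).map γ.toMonoidHom = NP R P := by
  have key : ∀ δ : MulAut Y, PM cs h T X δ → ∀ (w : W) (g : Y), Rp cs R.nsys w g → Rp cs R.nsys w (δ g) := by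
    intro δ hδ w g hg
    have hn : δ g ∈ Subgroup.normalizer (T : Set Y) := by
      rw [Subgroup.mem_normalizer_iff]
      intro t
      have h1 := Subgroup.mem_normalizer_iff.1 hg.mem_normalizer (δ⁻¹ t)
      have h2 : δ (g * δ⁻¹ t * g⁻¹) = δ g * t * (δ g)⁻¹ := by
        rw [map_mul, map_mul, map_inv, MulAut.apply_inv_self]
      rw [← h2, hδ.tor, ← h1]
      exact (hδ.tor.inv t).symm
    obtain ⟨w', hw'⟩ := exists_rp_of_norm R hG hno hn
    suffices hww : w' = w by rwa [hww] at hw'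
    have h3 : ∀ x, IsRoot cs h x → rep cs h w' x = rep cs h w x := by
      intro x hx
      rcases hδ.root with h1 | h1
      · apply X_injective R (hx.act _) (hx.act _)
        rw [← R.conj_rp hw' hx, ← map_eq_of_iff (h1 _ (hx.act w)), ← R.conj_rp hg hx, map_cj,
          map_eq_of_iff (h1 x hx)]
      · have h4 : rep cs h w' (-x) = -rep cs h w x := by
          apply X_injective R (hx.neg.act _) (hx.act _).neg
          rw [← R.conj_rp hw' hx.neg, ← map_eq_of_iff (h1 _ (hx.act w)), ← R.conj_rp hg hx, map_cj,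
            map_eq_of_iff (h1 x hx)]
        rw [map_neg, neg_inj] at h4
        exact h4
    have h5 : w⁻¹ * w' = 1 := by
      refine eq_one_of_fix cs h _ fun i => ?_
      show rep cs h (w⁻¹ * w') (sr i) = sr i
      rw [rep_mul_apply, h3 _ (isRoot_sr cs h i), rep_inv_apply]
    exact (inv_mul_eq_one.1 h5).symm
  have hγ' : PM cs h T X γ⁻¹ := by
    refine ⟨hγ.tor.inv, ?_⟩
    rcases hγ.root with h1 | h1
    · left
      intro x hx y
      rw [← h1 x hx, MulAut.apply_inv_self]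
    · right
      intro x hx y
      have h2 := h1 (-x) hx.neg (γ⁻¹ y)
      rw [neg_neg, MulAut.apply_inv_self] at h2
      exact h2.symm
  apply map_eq_of_iff
  intro y
  constructor
  · rintro ⟨w, hw, hy⟩
    refine ⟨w, hw, ?_⟩
    have := key γ⁻¹ hγ' w _ hy
    rwa [MulAut.inv_apply_self] at this
  · rintro ⟨w, hw, hy⟩
    exact ⟨w, hw, key γ hγ w y hy⟩

theorem PM.map_MF [Finite W] (hG : GG cs h T X = ⊤) (hno : NoFix cs h T X) {γ : MulAut Y} (hγ : PM cs h T X γ)
    {β : ι → (I → ℤ)} (hβ : ∀ a, IsRoot cs h (β a)) (P : Subgroup W) :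
    (MF R β P).map γ.toMonoidHom = MF R β P := by
  unfold MF
  rw [Subgroup.map_sup, hγ.map_NP R hG hno, Subgroup.map_iSup]
  congr 1
  exact iSup_congr fun a => hγ.map_LL (hβ a)

end

/-! ### the number of frame groups -/

theorem index_cj {Y : Type*} [Group Y] (m : Y) (H : Subgroup Y) : (cj m H).index = H.index := by
  have h1 : cj m H = H.map ((MulAut.conj m : Y ≃* Y) : Y →* Y) := rfl
  rw [h1, Subgroup.index_map_equiv]

section

variable {I W Y : Type*} [Fintype I] [DecidableEq I] [Group W] [Group Y] {M : CoxeterMatrix I}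
  {cs : CoxeterSystem M W} {C : I → I → ℤ} {h : IsCartan M C} {p : ℕ} {T : Subgroup Y} {n : I → Y}
  {X : (I → ℤ) → Subgroup Y} {ι : Type*}
variable (R : RGD cs h p T n X)

/-- the elements of the Weyl group which fix all `± β a` and have representatives in `⨆ a, LL X (β a)` -/
def AA (R : RGD cs h p T n X) (β : ι → (I → ℤ)) : Subgroup W where
  carrier := {w | (∀ a, rep cs h w (β a) = β a ∨ rep cs h w (β a) = -β a) ∧
    ∃ g ∈ (⨆ a, LL X (β a) : Subgroup Y), Rp cs R.nsys w g}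
  mul_mem' := by
    rintro v w ⟨hv, g, hg, hgr⟩ ⟨hw, g', hg', hgr'⟩
    refine ⟨fun a => ?_, g * g', mul_mem hg hg', hgr.mul hgr'⟩
    rw [rep_mul_apply]
    rcases hw a with h1 | h1 <;> rcases hv a with h2 | h2 <;> rw [h1] <;> simp [h2]
  one_mem' := ⟨fun a => Or.inl (by rw [map_one, Module.End.one_apply]), 1, one_mem _, rp_one⟩
  inv_mem' := by
    rintro w ⟨hw, g, hg, hgr⟩
    refine ⟨fun a => ?_, g⁻¹, inv_mem hg, hgr.inv⟩
    rcases hw a with h1 | h1
    · left
      conv_lhs => rw [← h1]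
      rw [rep_inv_apply]
    · right
      have h2 : rep cs h w⁻¹ (rep cs h w (β a)) = rep cs h w⁻¹ (-β a) := by rw [h1]
      rw [rep_inv_apply, map_neg] at h2
      have h3 := congrArg Neg.neg h2
      rw [neg_neg] at h3
      exact h3.symm

variable {β : ι → (I → ℤ)} {P : Subgroup W}

include R

/-- representatives of elements of `AA` are in the frame group -/
theorem NP_AA_le : NP R (AA R β) ≤ MF R β P := by
  rintro g ⟨w, ⟨-, k, hk, hkr⟩, hg⟩
  have h1 : k⁻¹ * g ∈ T := hkr.unique hg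
  have h2 : g = k * (k⁻¹ * g) := by group
  rw [h2]
  exact mul_mem (Subgroup.mem_sup_left hk) (Subgroup.mem_sup_right (T_le_NP R h1))

theorem NP_mono {P P' : Subgroup W} (hP : P ≤ P') : NP R P ≤ NP R P' := fun _ ⟨w, hw, hg⟩ => ⟨w, hP hw, hg⟩

theorem NP_sup_le {P' : Subgroup W} {K : Subgroup Y} (h1 : NP R P ≤ K) (h2 : NP R P' ≤ K) :
    NP R (P ⊔ P') ≤ K := by
  have key : ∀ w ∈ P ⊔ P', ∀ g, Rp cs R.nsys w g → g ∈ K := by
    intro w hw
    rw [Subgroup.sup_eq_closure] at hw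
    induction hw using Subgroup.closure_induction with
    | mem w hw =>
      intro g hg
      rcases hw with hw | hw
      · exact h1 ⟨w, hw, hg⟩
      · exact h2 ⟨w, hw, hg⟩
    | one => exact fun g hg => h1 (T_le_NP R hg.mem_of_one)
    | mul v w _ _ hv hw =>
      intro g hg
      obtain ⟨k, hk⟩ := exists_rp cs R.nsys v
      have h3 : Rp cs R.nsys w (k⁻¹ * g) := by
        have := hk.inv.mul hg
        rwa [inv_mul_cancel_left] at this
      have h4 : g = k * (k⁻¹ * g) := by group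
      rw [h4]
      exact mul_mem (hv k hk) (hw _ h3)
    | inv w _ hw =>
      intro g hg
      have := hg.inv
      rw [inv_inv] at this
      rw [← inv_inv g]
      exact inv_mem (hw _ this)
  rintro g ⟨w, hw, hg⟩
  exact key w hw g hg

variable [Finite W]

/-- the reflection in a root of the frame -/
theorem exists_refl (F : FrameData cs h X β P) [DecidableEq ι] (a : ι) : ∃ w ∈ AA R β,
    ∀ b, rep cs h w (β b) = if b = a then -β b else β b := by
  obtain ⟨v, i, hv⟩ := F.root a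
  obtain ⟨m, hm, hr⟩ := exists_m' R hv
  have hw : ∀ b, rep cs h (v * cs.simple i * v⁻¹) (β b) = if b = a then -β b else β b := by
    intro b
    by_cases hab : b = a
    · rw [if_pos hab, hab, rep_mul_apply, rep_mul_apply, hv, rep_inv_apply, rep_simple_sr, map_neg]
    · rw [if_neg hab]
      apply X_injective R ((F.root b).act _) (F.root b)
      rw [← R.conj_rp hr (F.root b)]
      exact cj_eq_of_commute (L := LL X (β b)) (fun y hy => F.orth a b (Ne.symm hab) m hm y hy) (X_le_LL (β b))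
  refine ⟨v * cs.simple i * v⁻¹, ⟨fun b => ?_, m, le_iSup (fun a => LL X (β a)) a hm, hr⟩, hw⟩
  rw [hw]
  by_cases hab : b = a
  · rw [if_pos hab]; exact Or.inr rfl
  · rw [if_neg hab]; exact Or.inl rfl

omit [Finite W] R in
theorem root_ne_neg {x : I → ℤ} (hx : IsRoot cs h x) : x ≠ -x := by
  intro h1
  have h2 : x = 0 := by
    funext i
    have := congrFun h1 i
    rw [Pi.neg_apply] at this
    simp only [Pi.zero_apply]
    omega
  obtain ⟨w, i, rfl⟩ := hx
  have h3 := congrArg (rep cs h w⁻¹) h2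
  rw [rep_inv_apply, map_zero] at h3
  have h4 := congrFun h3 i
  rw [sr_self] at h4
  exact one_ne_zero h4

/-- the signs -/
noncomputable def sgn (F : FrameData cs h X β P) : AA R β →* (ι → ℤˣ) := by
  classical
  exact
  { toFun := fun w a => if rep cs h (w : W) (β a) = β a then 1 else -1
    map_one' := by
      funext a
      simp
    map_mul' := by
      rintro ⟨v, hv, hv'⟩ ⟨w, hw, hw'⟩
      funext a
      show (if rep cs h (v * w) (β a) = β a then (1 : ℤˣ) else -1) =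
        (if rep cs h v (β a) = β a then (1 : ℤˣ) else -1) * (if rep cs h w (β a) = β a then (1 : ℤˣ) else -1)
      have hne := root_ne_neg (F.root a)
      rw [rep_mul_apply]
      rcases hw a with h1 | h1 <;> rcases hv a with h2 | h2 <;> rw [h1] <;> simp [h2, hne.symm] }

theorem sgn_surjective (F : FrameData cs h X β P) [Finite ι] : Function.Surjective (sgn R F) := by
  classical
  have := Fintype.ofFinite ι
  have h1 : ∀ a, Pi.mulSingle a (-1 : ℤˣ) ∈ (sgn R F).range := by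
    intro a
    obtain ⟨w, hw, e⟩ := exists_refl R F a
    refine ⟨⟨w, hw⟩, ?_⟩
    funext b
    show (if rep cs h w (β b) = β b then (1 : ℤˣ) else -1) = _
    rw [e b]
    by_cases hab : b = a
    · subst hab
      rw [if_pos rfl, if_neg (root_ne_neg (F.root b)).symm, Pi.mulSingle_eq_same]
    · rw [if_neg hab, if_pos rfl, Pi.mulSingle_eq_of_ne hab]
  intro f
  have h2 : f ∈ (sgn R F).range := by
    rw [← Finset.univ_prod_mulSingle f]
    refine Subgroup.prod_mem _ fun a _ => ?_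
    rcases Int.units_eq_one_or (f a) with h3 | h3
    · rw [h3, Pi.mulSingle_one]; exact one_mem _
    · rw [h3]; exact h1 a
  exact h2

theorem card_AA_dvd (F : FrameData cs h X β P) [Fintype ι] : 2 ^ Fintype.card ι ∣ Nat.card (AA R β) := by
  have h1 := Subgroup.card_dvd_of_surjective (sgn R F) (sgn_surjective R F)
  rwa [Nat.card_pi, Finset.prod_const, Finset.card_univ, show Nat.card ℤˣ = 2 by
    rw [Nat.card_eq_fintype_card, Fintype.card_units_int]] at h1

theorem AA_inf (F : FrameData cs h X β P) : AA R β ⊓ P = ⊥ := by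
  rw [eq_bot_iff]
  rintro w ⟨⟨h1, -⟩, h2⟩
  exact Subgroup.mem_bot.2 (F.faith w h2 h1)

variable [Finite Y]

theorem P_le_normalizer (F : FrameData cs h X β P) [Fintype ι] : P ≤ Subgroup.normalizer (AA R β : Set W) := by
  have key : ∀ v ∈ P, ∀ w ∈ AA R β, v * w * v⁻¹ ∈ AA R β := by
    rintro v hv w ⟨hw, g, hg, hgr⟩
    obtain ⟨k, hk⟩ := exists_rp cs R.nsys v
    refine ⟨fun a => ?_, k * g * k⁻¹, ?_, (hk.mul hgr).mul hk.inv⟩
    · obtain ⟨b, hb⟩ := F.perm v⁻¹ (inv_mem hv) a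
      rw [rep_mul_apply, rep_mul_apply]
      have h0 : rep cs h v (rep cs h v⁻¹ (β a)) = β a := rep_apply_inv _ _ _ _
      rcases hb with hb | hb <;> rcases hw b with h1 | h1 <;> rw [hb] at h0 ⊢ <;>
        simp only [map_neg, h1, neg_neg] at h0 ⊢ <;> simp [← h0]
    · have h1 := NP_le_normalizer R F (show k ∈ NP R P from ⟨v, hv, hk⟩)
      exact (Subgroup.mem_normalizer_iff.1 h1 g).1 hg
  intro v hv
  rw [Subgroup.mem_normalizer_iff]
  intro w
  refine ⟨key v hv w, fun hw => ?_⟩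
  have := key v⁻¹ (inv_mem hv) _ hw
  rwa [inv_inv, show v⁻¹ * (v * w * v⁻¹) * v = w by group] at this

theorem card_AAP (F : FrameData cs h X β P) [Fintype ι] :
    2 ^ Fintype.card ι * Nat.card P ∣ Nat.card (AA R β ⊔ P : Subgroup W) := by
  have h1 := card_sup_mul' (P_le_normalizer R F)
  rw [AA_inf R F, Subgroup.card_bot, mul_one] at h1
  rw [h1]
  exact mul_dvd_mul (card_AA_dvd R F) dvd_rfl

omit [Finite W] [Finite Y] in
theorem NP_AAP_le : NP R (AA R β ⊔ P) ≤ MF R β P := NP_sup_le R (NP_AA_le R) le_sup_right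

/-- the preimage of `AA ⊔ P` has odd index in `N_Y(T)` -/
theorem odd_relIndex_NP (hG : GG cs h T X = ⊤) (hno : NoFix cs h T X) (F : FrameData cs h X β P) [Fintype ι]
    (hW : ∀ m : ℕ, 2 ^ m ∣ Nat.card W → 2 ^ m ∣ 2 ^ Fintype.card ι * Nat.card P) :
    Odd ((NP R (AA R β ⊔ P)).relIndex (Subgroup.normalizer (T : Set Y))) := by
  have hN : Subgroup.normalizer (T : Set Y) = NP R ⊤ := by
    ext g
    constructor
    · intro hg
      obtain ⟨w, hw⟩ := exists_rp_of_norm R hG hno hg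
      exact ⟨w, Subgroup.mem_top _, hw⟩
    · rintro ⟨w, -, hw⟩
      exact hw.mem_normalizer
  rw [hN]
  have h1 := card_mul_relIndex' (NP_mono R (le_top : AA R β ⊔ P ≤ ⊤))
  rw [card_NP, card_NP, Subgroup.card_top] at h1
  have h2 : Nat.card (AA R β ⊔ P : Subgroup W) * (NP R (AA R β ⊔ P)).relIndex (NP R ⊤) = Nat.card W := by
    have h3 : 0 < Nat.card T := Nat.card_pos
    apply Nat.eq_of_mul_eq_mul_right h3
    rw [← h1]; ring
  rw [← Nat.not_even_iff_odd, even_iff_two_dvd]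
  intro h3
  have h4 : 0 < Nat.card (AA R β ⊔ P : Subgroup W) := Nat.card_pos
  have h5 : 2 ^ ((Nat.card (AA R β ⊔ P : Subgroup W)).factorization 2 + 1) ∣ Nat.card W := by
    rw [← h2, pow_succ]
    exact mul_dvd_mul (Nat.ordProj_dvd _ 2) h3
  exact Nat.pow_succ_factorization_not_dvd h4.ne' Nat.prime_two ((hW _ h5).trans (card_AAP R F))

end

section

universe u

variable {I W : Type*} {Y : Type u} [Fintype I] [DecidableEq I] [Group W] [Group Y] {M : CoxeterMatrix I}
  {cs : CoxeterSystem M W} {C : I → I → ℤ} {h : IsCartan M C} {p : ℕ} {T : Subgroup Y} {n : I → Y}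
  {X : (I → ℤ) → Subgroup Y} {ι : Type*} [Finite W] [Finite Y] [Fact p.Prime] [Fintype ι]
variable (R : RGD cs h p T n X) {β : ι → (I → ℤ)} {P : Subgroup W}

open scoped Pointwise in
/-- **The frame groups over `T`.** -/
theorem frames (hG : GG cs h T X = ⊤) (hno : NoFix cs h T X) (F : FrameData cs h X β P)
    (hW : ∀ m : ℕ, 2 ^ m ∣ Nat.card W → 2 ^ m ∣ 2 ^ Fintype.card ι * Nat.card P)
    (hodd : Odd (MF R β P).index)
    (hPM : ∀ (γ : MulAut Y) (σ : Equiv.Perm I), Diag T X γ σ →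
      ∃ m ∈ Subgroup.normalizer (T : Set Y), PM cs h T X (MulAut.conj m * γ)) :
    Frames T (Fr R β P) where
  odd := by
    let _ : MulAction ↥(Subgroup.normalizer (T : Set Y)) (Subgroup Y) :=
      MulAction.compHom (Subgroup Y) ((MulAut.conj : Y →* MulAut Y).comp (Subgroup.normalizer (T : Set Y)).subtype)
    have h1 : Fr R β P = MulAction.orbit ↥(Subgroup.normalizer (T : Set Y)) (MF R β P) := by
      ext K
      constructor
      · rintro ⟨m, hm, rfl⟩
        exact ⟨⟨m, hm⟩, rfl⟩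
      · rintro ⟨⟨m, hm⟩, rfl⟩
        exact ⟨m, hm, rfl⟩
    rw [h1, Nat.card_coe_set_eq, ← MulAction.index_stabilizer]
    refine Odd.of_dvd_nat (odd_relIndex_NP R hG hno F hW) ?_
    refine Subgroup.index_dvd_of_le ?_
    intro g hg
    rw [Subgroup.mem_subgroupOf] at hg
    rw [MulAction.mem_stabilizer_iff]
    exact cj_eq_of_mem (NP_AAP_le R hg)
  index := by
    rintro _ ⟨m, -, rfl⟩
    rw [index_cj]
    exact hodd
  stab := by
    rintro α hα _ ⟨m, hm, rfl⟩
    obtain ⟨g, hg, γ, σ, D, rfl⟩ := exists_diag_of_T R hG hα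
    obtain ⟨m₁, hm₁, hγ⟩ := hPM γ σ D
    obtain ⟨δ, hδ⟩ : ∃ δ, δ = MulAut.conj m₁ * γ := ⟨_, rfl⟩
    rw [← hδ] at hγ
    have e : MulAut.conj g * γ = MulAut.conj (g * m₁⁻¹) * δ := by
      rw [hδ, map_mul, map_inv]; group
    have e2 : (MulAut.conj g * γ).toMonoidHom = (MulAut.conj (g * m₁⁻¹)).toMonoidHom.comp δ.toMonoidHom := by
      rw [e]; rfl
    rw [e2, ← Subgroup.map_map, map_cj, hγ.map_MF R hG hno F.root]
    refine ⟨g * m₁⁻¹ * δ m, mul_mem (mul_mem hg (inv_mem hm₁)) ?_, ?_⟩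
    · have h1 := hγ.tor.normalizer
      exact (h1 m).2 hm
    · rw [cj_mul]; rfl

end

end Cfsg.Agent.H491.Sd
end

-- part: H491/Sd/FrOdd
section
set_option linter.all false
open scoped Cfsg.Agent.FastGrp

/-!
# The index of the frame group; a criterion for `NoFix` (helper491, S4579)

* `odd_index` : `MF R β P` has odd index (argument of `ClosedExc.Frame.closedRow`, helper50);
* `noFix_of_simple` : `NoFix` if some elements of `T` invert the simple root groups, `p` odd.
-/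

set_option autoImplicit false
set_option linter.unusedSectionVars false

namespace Cfsg.Agent.H491.Sd

open CoxeterSystem Cfsg.Agent.ChevalleyStructure.CoxeterGeom Cfsg.Agent.Tits.Roots Cfsg.Agent.Tits.Core
  Cfsg.Agent.Nodes.Reps Cfsg.Agent.Nodes.BNOf Cfsg.Agent.Nodes.Bruhat Cfsg.Agent.Nodes.OppDec
  Cfsg.Agent.KFacts.RgdAut Cfsg.Agent.KFacts.RgdDiag Cfsg.Agent.Nodes.FreeTorus
  Cfsg.Agent.ClosedExc Cfsg.Agent.ClosedExc.Rk Cfsg.Agent.ClosedExc.Prod Cfsg.Agent.ClosedExc.Frame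
  Cfsg.Agent.H55.Sd

variable {I W Y : Type*} [Fintype I] [DecidableEq I] [Group W] [Group Y] {M : CoxeterMatrix I}
  {cs : CoxeterSystem M W} {C : I → I → ℤ} {h : IsCartan M C} {p : ℕ} {T : Subgroup Y} {n : I → Y}
  {X : (I → ℤ) → Subgroup Y} {ι : Type*} [Fintype ι] [Finite W] [Finite Y]
variable (R : RGD cs h p T n X) {β : ι → (I → ℤ)} {P : Subgroup W}

include R

/-- **The frame group has odd index.** -/
theorem odd_index (F : FrameData cs h X β P) (hG : RGD.Sup X {x | IsRoot cs h x} = ⊤)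
    (hSL : ∀ i, IsSL (LL X (sr i)))
    (hord : ∀ m : ℕ, 2 ^ m ∣ Nat.card Y → 2 ^ m ∣ Nat.card T * Nat.card P * ∏ a, (Nat.card (X (β a)) + 1)) :
    Odd (MF R β P).index := by
  classical
  rw [← Nat.not_even_iff_odd, even_iff_two_dvd]
  have hSL' : ∀ x, IsRoot cs h x → IsSL (LL X x) := fun x hx => isSL_of_root R hSL hx
  have hGG : GG cs h T X = ⊤ := by
    rw [eq_top_iff, ← hG]
    exact le_sup_right
  have hn := NP_le_normalizer R F
  -- the order
  have hinf : (⨆ a, LL X (β a)) ⊓ NP R P = (⨆ a, LL X (β a)) ⊓ T := by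
    apply le_antisymm
    · rintro g ⟨h1, w, hw, hg⟩
      refine ⟨h1, frame_kernel R F hSL' hw hg (one_mem _) fun a => ?_⟩
      rw [one_mul]
      exact frame_cj_E F h1 a
    · exact inf_le_inf_left _ (T_le_NP R)
  have hE : Nat.card ↥((⨆ a, LL X (β a)) ⊓ T) * ∏ a, (Nat.card (X (β a)) + 1) ∣ Nat.card ↥(⨆ a, LL X (β a)) := by
    have h1 := Prod.card_dvd (L := fun a => LL X (β a)) (K := fun a => X (β a)) F.orth
      (fun a => X_le_LL (β a)) (St := T) (fun s hs a => R.tor _ (F.root a) s hs)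
    have h2 : ∀ a, Nat.card (Set.range fun g : LL X (β a) => cj (g : Y) (X (β a))) = Nat.card (X (β a)) + 1 :=
      fun a => card_conj R hGG (F.root a)
    simp only [h2] at h1
    exact h1
  have hcard : Nat.card T * Nat.card P * ∏ a, (Nat.card (X (β a)) + 1) ∣ Nat.card ↥((⨆ a, LL X (β a)) ⊔ NP R P) := by
    have h1 := card_sup_mul' hn
    rw [hinf, card_NP R P] at h1
    obtain ⟨c, hc⟩ := hE
    rw [hc] at h1
    refine ⟨c, ?_⟩
    have hpos : 0 < Nat.card ↥((⨆ a, LL X (β a)) ⊓ T) := Nat.card_pos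
    refine Nat.eq_of_mul_eq_mul_right hpos ?_
    rw [h1]; ring
  intro h2
  have hne : Nat.card ↥((⨆ a, LL X (β a)) ⊔ NP R P) ≠ 0 := Nat.card_pos.ne'
  have h3 : 2 ^ ((Nat.card ↥((⨆ a, LL X (β a)) ⊔ NP R P)).factorization 2 + 1) ∣ Nat.card Y := by
    rw [← Subgroup.card_mul_index ((⨆ a, LL X (β a)) ⊔ NP R P), pow_succ]
    exact mul_dvd_mul (Nat.ordProj_dvd _ 2) h2
  exact Nat.pow_succ_factorization_not_dvd hne Nat.prime_two ((hord _ h3).trans hcard)

/-- if elements of `T` invert the simple root groups, then `C_{X x}(T) = 1` for all roots, `p` odd -/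
theorem noFix_of_simple (hp : p ≠ 2) [Fact p.Prime]
    (hinv : ∀ i, ∃ t ∈ T, ∀ u ∈ X (sr i), t * u * t⁻¹ = u⁻¹) : NoFix cs h T X := by
  rintro x ⟨w, i, rfl⟩ u hu hc
  obtain ⟨k, hk⟩ := exists_rp cs R.nsys w
  have hu' : k⁻¹ * u * k ∈ X (sr i) := by
    rw [← R.conj_rp hk (isRoot_sr cs h i), mem_cj] at hu
    exact hu
  obtain ⟨t, ht, hti⟩ := hinv i
  have ht' : k * t * k⁻¹ ∈ T := (Subgroup.mem_normalizer_iff.1 hk.mem_normalizer t).1 ht
  have h1 := hc _ ht'
  have h2 := hti _ hu'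
  have h3 : t * (k⁻¹ * u * k) * t⁻¹ = k⁻¹ * u * k := by
    have e : t * (k⁻¹ * u * k) * t⁻¹ = k⁻¹ * (k * t * k⁻¹ * u) * (k * t⁻¹ * k⁻¹) * k := by group
    rw [e, h1]; group
  rw [h3] at h2
  obtain ⟨m, hm⟩ := R.pgrp i ⟨_, hu'⟩
  have h4 : (k⁻¹ * u * k) ^ p ^ m = 1 := congrArg Subtype.val hm
  have h5 : (k⁻¹ * u * k) ^ 2 = 1 := by
    rw [pow_two]
    nth_rewrite 2 [h2]
    exact mul_inv_cancel _
  have h6 : Nat.Coprime 2 (p ^ m) :=
    Nat.Coprime.pow_right m ((Nat.coprime_primes Nat.prime_two (Fact.out : p.Prime)).2 (Ne.symm hp))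
  have h7 : orderOf (k⁻¹ * u * k) = 1 :=
    Nat.eq_one_of_dvd_coprimes h6 (orderOf_dvd_of_pow_eq_one h5) (orderOf_dvd_of_pow_eq_one h4)
  rw [orderOf_eq_one_iff] at h7
  have e : u = k * (k⁻¹ * u * k) * k⁻¹ := by group
  rw [e, h7]; group

end Cfsg.Agent.H491.Sd
end

-- part: H491/Sd/FrE6
section
set_option linter.all false
open scoped Cfsg.Agent.FastGrp

/-!
# The frame groups of `E₆(q)`, `q` odd (helper491, S4579)

* `FrE6.noFix`, `FrE6.odd_index_e6`, `FrE6.frames_e6`: for the root group datum `RGDChev.rgd` of `chevE6.group K`, a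
  frame of four roots and `|P| = 8`.
-/

set_option autoImplicit false
set_option linter.unusedSectionVars false

namespace Cfsg.Agent.H491.Sd.FrE6

open CoxeterSystem Cfsg Cfsg.Lie Cfsg.Agent.ChevalleyStructure Cfsg.Agent.ChevalleyStructure.CoxeterGeom
  Cfsg.Agent.ChevalleyStructure.Elts Cfsg.Agent.Tits.Roots Cfsg.Agent.Nodes.Reps Cfsg.Agent.Nodes.BNOf
  Cfsg.Agent.Nodes.Bruhat Cfsg.Agent.Nodes.RGDChev Cfsg.Agent.ClosedExc Cfsg.Agent.ClosedExc.Frame
  Cfsg.Agent.ClosedExc.Chev Cfsg.Agent.ClosedExc.Families Cfsg.Agent.ChevalleyStructure.NPerm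
  Cfsg.Agent.ChevalleyStructure.CoxeterGeomTypes
open Cfsg.Agent.Nodes.FreeTorus (LL)
open Cfsg.Agent.KFacts.RgdAut Cfsg.Agent.KFacts.RgdDiag
open Cfsg.Agent.H491.Sd Cfsg.Agent.H55.Sd

section Gen

variable {D : ChevalleyDatum} {l : ℕ} {M : CoxeterMatrix (Fin l)} (hp : IsType D l M) (K : Type) [Field K]
  [Fintype K] {W : Type*} [Group W] [Finite W] (cs : CoxeterSystem M W) (p : ℕ) [Fact p.Prime] [CharP K p]

/-- the torus has no fixed points on the root groups -/
theorem noFix (hp2 : p ≠ 2) (hlk : ∀ j, ∃ i, lk D l i j) : NoFix cs hp.isCartan (TG D K) (XX D l K) := by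
  refine noFix_of_simple (rgd (K := K) hp cs p) hp2 fun j => ?_
  obtain ⟨i, hi⟩ := hlk j
  have hj := simple_lt hp.inList (lt_rank hp j)
  refine ⟨OddHalf.LongSL.Chev.phi hp K i (-1), neg_one_mem_T hp K i, fun u hu => ?_⟩
  rw [← vec_simple hp j] at hu
  obtain ⟨t, ht⟩ := (mem_XX hp K hj).1 hu
  apply Subtype.ext
  have h3 := neg_one_conj hp K i hj t
  have hodd : Odd (D.cartan i (D.simple j)) := Int.odd_iff.2 hi
  rw [hodd.neg_one_zpow, neg_one_mul] at h3
  show (OddHalf.LongSL.Chev.phi hp K i (-1) : GL D.Idx K) * (u : GL D.Idx K) *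
    (OddHalf.LongSL.Chev.phi hp K i (-1) : GL D.Idx K)⁻¹ = (u : GL D.Idx K)⁻¹
  rw [← ht, h3, eq_inv_iff_mul_eq_one, xG_add, neg_add_cancel, xG_zero]

end Gen

set_option backward.isDefEq.respectTransparency false in
/-- the diagram symmetries of `E₆` -/
theorem perm_E6 : ∀ σ : Equiv.Perm (Fin 6), (∀ i j, CoxeterMatrix.E₆ (σ i) (σ j) = CoxeterMatrix.E₆ i j) →
    (∀ i, σ i = i) ∨ (∀ i, σ i = (![5, 1, 4, 3, 2, 0] : Fin 6 → Fin 6) i) := by
  (set_option synthInstance.maxSize 9000 in open scoped Cfsg.Agent.Lib.FastPerm in decide +kernel)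

theorem cartan_flip : ∀ i j : Fin 6, cartanOf chevE6 6 ((![5, 1, 4, 3, 2, 0] : Fin 6 → Fin 6) i)
    ((![5, 1, 4, 3, 2, 0] : Fin 6 → Fin 6) j) = cartanOf chevE6 6 i j := by decide +kernel

/-- a word of the longest element of `W(E₆)` -/
def w0E6 : List ℕ := [0, 3, 5, 1, 2, 4, 0, 3, 5, 1, 2, 4, 0, 3, 5, 1, 2, 4, 0, 3, 5, 1, 2, 4, 0, 3, 5, 1, 2, 4,
  0, 3, 5, 1, 2, 4]

theorem act_w0 : ∀ i : Fin 6, WFr.act WFr.cE6.AL w0E6 (WFr.ei 6 ((![5, 1, 4, 3, 2, 0] : Fin 6 → Fin 6) i)) =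
    (WFr.ei 6 i).map fun x => -x := by decide +kernel

section E6

variable (K : Type) [Field K] [Fintype K] {W : Type*} [Group W] [Finite W]
  (cs : CoxeterSystem CoxeterMatrix.E₆ W) (p : ℕ) [Fact p.Prime] [CharP K p]

theorem rep_w0_sr (i : Fin 6) :
    rep cs isType_E6.isCartan (WFr.wd cs w0E6) (sr ((![5, 1, 4, 3, 2, 0] : Fin 6 → Fin 6) i)) = -sr i := by
  have h1 := WFr.rep_wd cs isType_E6.isCartan WFr.tabE6 (WFr.ei_length 6 ((![5, 1, 4, 3, 2, 0] : Fin 6 → Fin 6) i))
    w0E6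
  rw [WFr.toV_ei, act_w0, WFr.toV_neg, WFr.toV_ei] at h1
  exact h1

theorem rep_w0_comp {σ : Equiv.Perm (Fin 6)} (hσ : ∀ i, σ i = (![5, 1, 4, 3, 2, 0] : Fin 6 → Fin 6) i)
    (x : Fin 6 → ℤ) : rep cs isType_E6.isCartan (WFr.wd cs w0E6) (x ∘ σ.symm) = -x := by
  have h1 : x = ∑ i, x i • sr i := by
    funext j
    rw [Finset.sum_apply, Finset.sum_eq_single j]
    · rw [Pi.smul_apply, sr_self, smul_eq_mul, mul_one]
    · intro i _ hij
      rw [Pi.smul_apply, sr_ne (Ne.symm hij), smul_zero]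
    · intro hj
      exact absurd (Finset.mem_univ j) hj
  have h2 : x ∘ σ.symm = ∑ i, x i • sr (σ i) := by
    conv_lhs => rw [h1]
    funext j
    rw [Function.comp_apply, Finset.sum_apply, Finset.sum_apply]
    refine Finset.sum_congr rfl fun i _ => ?_
    rw [Pi.smul_apply, Pi.smul_apply, ← sr_comp σ i, Function.comp_apply]
  rw [h2, map_sum]
  conv_rhs => rw [h1]
  rw [← Finset.sum_neg_distrib]
  refine Finset.sum_congr rfl fun i _ => ?_
  rw [map_smul, hσ, rep_w0_sr, smul_neg]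

include p in
/-- automorphisms of the frame -/
theorem pm_of_diag {γ : MulAut ↥(chevE6.group K)} {σ : Equiv.Perm (Fin 6)}
    (D : Diag (TG chevE6 K) (XX chevE6 6 K) γ σ) :
    ∃ m ∈ Subgroup.normalizer (TG chevE6 K : Set ↥(chevE6.group K)),
      PM cs isType_E6.isCartan (TG chevE6 K) (XX chevE6 6 K) (MulAut.conj m * γ) := by
  have R := rgd (K := K) isType_E6 cs p
  have hσ := D.matrix R
  rcases perm_E6 σ hσ with h1 | h1
  · have h2 : σ = 1 := Equiv.ext h1
    subst h2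
    refine ⟨1, one_mem _, ?_⟩
    rw [map_one, one_mul]
    refine ⟨D.tor, Or.inl ?_⟩
    intro x hx y
    exact D.root_comp R (fun _ _ => rfl) hx y
  · obtain ⟨k, hk⟩ := exists_rp cs R.nsys (WFr.wd cs w0E6)
    refine ⟨k, hk.mem_normalizer, ?_⟩
    have hA : ∀ i j, cartanOf chevE6 6 (σ i) (σ j) = cartanOf chevE6 6 i j := by
      intro i j
      rw [h1, h1]
      exact cartan_flip i j
    refine ⟨?_, Or.inr ?_⟩
    · refine Fix.mul ?_ D.tor
      intro x
      rw [MulAut.conj_apply]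
      exact (Subgroup.mem_normalizer_iff.1 hk.mem_normalizer x).symm
    · intro x hx y
      have h3 : IsRoot cs isType_E6.isCartan (x ∘ σ.symm) := by
        have h4 := hx.neg.act (WFr.wd cs w0E6)⁻¹
        rwa [← rep_w0_comp cs h1 x, rep_inv_apply] at h4
      rw [MulAut.mul_apply, MulAut.conj_apply, ← D.root_comp R hA hx y]
      have h5 : cj k (XX chevE6 6 K (x ∘ σ.symm)) = XX chevE6 6 K (-x) := by
        rw [← rep_w0_comp cs h1 x]
        exact R.conj_rp hk h3
      rw [← h5]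
      exact conj_mem_cj

variable {ι : Type*} [Fintype ι] {β : ι → (Fin 6 → ℤ)} {P : Subgroup W}

/-- **The frame group of `E₆(q)` has odd index.** -/
theorem odd_index_e6 (hK : Odd (Fintype.card K))
    (F : FrameData cs isType_E6.isCartan (XX chevE6 6 K) β P) (hι : Fintype.card ι = 4) (hP : Nat.card P = 8) :
    Odd (MF (rgd (K := K) isType_E6 cs p) β P).index := by
  have hT : Nat.card (TG chevE6 K) = Nat.card ↥(chevE6.diagonalSubgroup K) :=
    Nat.card_congr (Subgroup.subgroupOfEquivOfLe (Cfsg.Agent.ChevalleyStructure.Elts.diagonal_le_group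
      isType_E6.inList K)).toEquiv
  refine odd_index (rgd (K := K) isType_E6 cs p) F (G1_eq_top isType_E6 cs) (isSL isType_E6 K hK) ?_
  intro m hm
  have h8 := Orders.ord_E6 hK (three_le hK) (Nat.gcd_pos_of_pos_left _ (by norm_num)).ne' (S1063.result (F := K) rfl)
    (S1035.result (F := K) rfl (chevE6, Nat.gcd 3 (Fintype.card K - 1)) (by simp)) m hm
  have h9 : ∀ a, Nat.card (XX chevE6 6 K (β a)) = Fintype.card K := fun a => card_XX isType_E6 K cs (F.root a)
  rw [hT, hP]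
  simp only [h9, Finset.prod_const, Finset.card_univ, hι]
  exact h8

theorem card_W : Nat.card CoxeterMatrix.E₆.Group = 51840 := S1093.result (⟨6, CoxeterMatrix.E₆⟩, 51840) (by simp)

/-- **The frame groups of `E₆(q)` over the torus.** -/
theorem frames_e6 (hK : Odd (Fintype.card K)) (hW : Nat.card W = 51840)
    (F : FrameData cs isType_E6.isCartan (XX chevE6 6 K) β P) (hι : Fintype.card ι = 4) (hP : Nat.card P = 8) :
    Frames (TG chevE6 K) (Fr (rgd (K := K) isType_E6 cs p) β P) := by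
  have hp2 : p ≠ 2 := by
    rintro rfl
    exact two_ne K hK CharTwo.two_eq_zero
  have hG : GG cs isType_E6.isCartan (TG chevE6 K) (XX chevE6 6 K) = ⊤ :=
    Cfsg.Agent.KFacts.RgdRigid.GG_eq_top (G1_eq_top isType_E6 cs)
  refine frames (rgd (K := K) isType_E6 cs p) hG (noFix isType_E6 K cs p hp2 (by decide +kernel)) F ?_
    (odd_index_e6 K cs p hK F hι hP) ?_
  · intro m hm
    rw [hι, hP]
    rw [hW] at hm
    have h1 : (2 ^ 4 * 8 : ℕ) = 2 ^ 7 := by norm_num
    rw [h1]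
    refine pow_dvd_pow 2 ?_
    by_contra hcon
    have h2 : 2 ^ 8 ∣ 51840 := (pow_dvd_pow 2 (by omega)).trans hm
    exact absurd h2 (by norm_num)
  · intro γ σ D
    exact pm_of_diag K cs p D

end E6

end Cfsg.Agent.H491.Sd.FrE6
end
end
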